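import Cfsg.Agent.Lib.CosetEnum.ON.Sub.Faithful
import Cfsg.Agent.Lib.CosetEnum.ON.Orbits

/-! Evaluation of words and orbital labels on the cosets of the O'Nan group. -/

set_option autoImplicit false

namespace CfsgLib.ONAut

open CfsgLib.CosetEnum

local notation "IP" => 18364758542614016535

/-- The value of a word. -/
def ev (w : List ℕ) : Cfsg.Spor.ON := (w.map ON.g).prod

/-- Letters of a word are generators. -/
noncomputable def wordB (w : List ℕ) : Bool := w.all fun x => Nat.blt x 8

/-- The columns read to evaluate a word. -/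
noncomputable def rv (w : List ℕ) : List ℕ := (w.map (linv IP)).reverse

/-- The image of a point under a word. -/
noncomputable def app (w : List ℕ) (k : ℕ) : ℕ := scan ON.table (rv w) k

theorem wordB_spec {w : List ℕ} (h : wordB w = true) : ∀ x ∈ w, x < 16 := fun x hx => by
  have := List.all_eq_true.1 h x hx
  rw [Nat.blt_eq] at this
  omega

theorem ev_app {w : List ℕ} (h : wordB w = true) (k : Fin 122760) :
    ((ON.π (ev w) k : Fin 122760) : ℕ) = app w k := ON.Sub.π_word w (wordB_spec h) k

theorem ev_append (u w : List ℕ) : ev (u ++ w) = ev u * ev w := by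
  simp [ev, List.map_append, List.prod_append]

theorem ev_nil : ev [] = 1 := rfl

theorem ev_replicate (w : List ℕ) : ∀ n : ℕ, ev (List.replicate n w).flatten = ev w ^ n
  | 0 => by rw [List.replicate_zero, List.flatten_nil, ev_nil, pow_zero]
  | n + 1 => by rw [List.replicate_succ, List.flatten_cons, ev_append, ev_replicate w n, pow_succ']

/-- A word built from the values of a list of words. -/
def flat (L : List (List ℕ)) (w : List ℕ) : List ℕ := (w.map fun a => L.getD a []).flatten

theorem ev_flat (L : List (List ℕ)) : ∀ w : List ℕ, ev (flat L w) = (w.map fun a => ev (L.getD a [])).prod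
  | [] => rfl
  | a :: w => by
    rw [flat, List.map_cons, List.flatten_cons, ev_append, List.map_cons, List.prod_cons, ← ev_flat L w]
    rfl

/-- Two words have equal values. -/
noncomputable def eqW (u w : List ℕ) : Bool :=
  wordB u && wordB w && ON.Sub.base.all fun p => Nat.beq (app u p) (app w p)

theorem eqW_spec {u w : List ℕ} (h : eqW u w = true) : ev u = ev w := by
  simp only [eqW, Bool.and_eq_true, List.all_eq_true, Nat.beq_eq] at h
  refine (inv_mul_eq_one.1 (ON.Sub.eq_one_of_fix _ fun p hp => ?_)).symm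
  rw [map_mul, Equiv.Perm.mul_apply, map_inv, Equiv.Perm.inv_def, Equiv.symm_apply_eq]
  refine Fin.ext ?_
  rw [ev_app h.1.1, ev_app h.1.2]
  exact h.2 p hp

/-- Two words have different values. -/
noncomputable def neW (u w : List ℕ) : Bool :=
  wordB u && wordB w && ON.Sub.base.any fun p => !Nat.beq (app u p) (app w p)

theorem neW_spec {u w : List ℕ} (h : neW u w = true) : ev u ≠ ev w := by
  simp only [neW, Bool.and_eq_true, List.any_eq_true, Bool.not_eq_true'] at h
  obtain ⟨⟨hu, hw⟩, p, hp, hne⟩ := h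
  intro e
  have := ev_app hu ⟨p, ON.Sub.base_lt p hp⟩
  rw [e, ev_app hw] at this
  simp [this] at hne

theorem pi_g {x : ℕ} (hx : x < 16) (k : Fin 122760) :
    ((ON.π (ON.g (linv IP x)) k : Fin 122760) : ℕ) = act ON.table x k :=
  pi_g_linv ON.table IP 122760 ON.ip_ok ON.row_ok ON.π ON.g ON.hπ hx k

/-- The column leading a point towards the first one. -/
noncomputable def back (a : ℕ) : ℕ := linv IP (ON.par.get 24 a &&& 15)

/-- The path from a point reaches the first one. -/
noncomputable def reach : ℕ → ℕ → Bool :=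
  Nat.rec (motive := fun _ => ℕ → Bool) (fun a => Nat.beq a 0)
    (fun _ ih a => Nat.beq a 0 ||
      strict (back a) fun x => Nat.blt x 16 && strict (act ON.table x a) fun a' => ih a')

/-- Pull a point back along the path of another one and read its label. -/
noncomputable def pull : ℕ → ℕ → ℕ → ℕ :=
  Nat.rec (motive := fun _ => ℕ → ℕ → ℕ) (fun _ b => ON.lab.get 20 b)
    (fun _ ih a b => bif Nat.beq a 0 then ON.lab.get 20 b else
      strict (back a) fun x => strict (act ON.table x a) fun a' => strict (act ON.table x b) fun b' => ih a' b')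

theorem reach_zero (a : ℕ) : reach 0 a = Nat.beq a 0 := rfl

theorem reach_succ (f a : ℕ) : reach (f + 1) a =
    (Nat.beq a 0 || (Nat.blt (back a) 16 && reach f (act ON.table (back a) a))) := by
  show (Nat.beq a 0 || strict (back a) fun x => Nat.blt x 16 &&
    strict (act ON.table x a) fun a' => reach f a') = _
  rw [strict_eq, strict_eq]

theorem pull_zero (a b : ℕ) : pull 0 a b = ON.lab.get 20 b := rfl

theorem pull_succ (f a b : ℕ) : pull (f + 1) a b =
    bif Nat.beq a 0 then ON.lab.get 20 b else pull f (act ON.table (back a) a) (act ON.table (back a) b) := by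
  show (bif Nat.beq a 0 then ON.lab.get 20 b else strict (back a) fun x => strict (act ON.table x a) fun a' =>
    strict (act ON.table x b) fun b' => pull f a' b') = _
  rw [strict_eq, strict_eq, strict_eq]

theorem path_spec : ∀ (f : ℕ) (a : Fin 122760), reach f a = true →
    ∃ u : Cfsg.Spor.ON, ON.π u ⟨0, by omega⟩ = a ∧
      ∀ b : Fin 122760, pull f a b = ON.lab.get 20 (ON.π u⁻¹ b : Fin 122760) := by
  intro f
  induction f with
  | zero =>
    intro a h
    rw [reach_zero, Nat.beq_eq] at h
    refine ⟨1, by rw [map_one]; exact Fin.ext h.symm, fun b => ?_⟩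
    rw [pull_zero, inv_one, map_one]; rfl
  | succ f ih =>
    intro a h
    rw [reach_succ] at h
    by_cases h0 : (a : ℕ) = 0
    · refine ⟨1, by rw [map_one]; exact Fin.ext h0.symm, fun b => ?_⟩
      rw [pull_succ, show Nat.beq (a : ℕ) 0 = true from Nat.beq_eq.symm ▸ h0, cond_true, inv_one, map_one, Equiv.Perm.one_apply]
    · have hb : Nat.beq (a : ℕ) 0 = false := Bool.eq_false_iff.2 fun e => h0 (Nat.eq_of_beq_eq_true e)
      rw [hb, Bool.false_or, Bool.and_eq_true, Nat.blt_eq] at h
      obtain ⟨hx, hr⟩ := h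
      rw [← pi_g hx] at hr
      obtain ⟨u, hu, hpull⟩ := ih _ hr
      refine ⟨(ON.g (linv IP (back a)))⁻¹ * u, ?_, fun b => ?_⟩
      · rw [map_mul, Equiv.Perm.mul_apply, hu, map_inv, Equiv.Perm.inv_def, Equiv.symm_apply_apply]
      · rw [pull_succ, hb, cond_false, ← pi_g hx, ← pi_g hx, hpull, mul_inv_rev, inv_inv, map_mul,
          Equiv.Perm.mul_apply]

/-- The orbital label of a pair of points. -/
noncomputable def lbl (a b : ℕ) : ℕ := pull 20 a b

theorem mem_H_of_fix {z : Cfsg.Spor.ON} (hz : ON.π z ⟨0, by omega⟩ = ⟨0, by omega⟩) : z ∈ ON.H := by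
  have hn : 0 < 122760 := by omega
  have hbij := cosetPt_bijective hn ON.π ON.H ON.covers (ON.sub_fix hn) (ON.transitive hn)
  have h1 : ((z : Cfsg.Spor.ON) : Cfsg.Spor.ON ⧸ ON.H) = ((1 : Cfsg.Spor.ON) : Cfsg.Spor.ON ⧸ ON.H) :=
    hbij.1 (by rw [cosetPt_mk, cosetPt_mk, map_one, Equiv.Perm.one_apply]; exact hz)
  simpa using QuotientGroup.eq.mp h1.symm

theorem lbl_move (hreach : ∀ a : Fin 122760, reach 20 a = true) (g : Cfsg.Spor.ON) (a b : Fin 122760) :
    lbl (ON.π g a : Fin 122760) (ON.π g b : Fin 122760) = lbl a b := by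
  obtain ⟨u, hu, hp⟩ := path_spec 20 a (hreach a)
  obtain ⟨u', hu', hp'⟩ := path_spec 20 _ (hreach (ON.π g a))
  have hmem : u'⁻¹ * g * u ∈ ON.H := mem_H_of_fix (by
    rw [map_mul, map_mul, Equiv.Perm.mul_apply, Equiv.Perm.mul_apply, hu, ← hu', map_inv,
      Equiv.Perm.inv_def, Equiv.symm_apply_apply])
  have e := label_invariant ON.π ON.H ON.subTable ON.sub_spec.2 ON.lab ON.orbPar ON.root ON.orbit_ok _ hmem
    (ON.π u⁻¹ b)
  show pull 20 _ _ = pull 20 a b
  rw [hp, hp', ← e, ← Equiv.Perm.mul_apply, ← map_mul, ← Equiv.Perm.mul_apply, ← map_mul]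
  congr 4
  group

theorem lab_stab {g : Cfsg.Spor.ON} (hg : ON.π g ⟨0, by omega⟩ = ⟨0, by omega⟩) (b : Fin 122760) :
    ON.lab.get 20 (ON.π g b : Fin 122760) = ON.lab.get 20 b :=
  label_invariant ON.π ON.H ON.subTable ON.sub_spec.2 ON.lab ON.orbPar ON.root ON.orbit_ok _ (mem_H_of_fix hg) b

end CfsgLib.ONAut
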