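import Cfsg.Agent.Lib.ONAut.Base

/-! Certificates listing the elements of the point stabiliser intertwining two elements. -/

set_option autoImplicit false

namespace CfsgLib.ONAut

open CfsgLib.CosetEnum

/-- The successive images of a point under a word. -/
noncomputable def cyc (r : List ℕ) : ℕ → ℕ → List ℕ :=
  Nat.rec (motive := fun _ => ℕ → List ℕ) (fun _ => [])
    (fun _ ih a => a :: strict (scan ON.table r a) fun a' => ih a')

theorem cyc_zero (r : List ℕ) (a : ℕ) : cyc r 0 a = [] := rfl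

theorem cyc_succ (r : List ℕ) (m a : ℕ) : cyc r (m + 1) a = a :: cyc r m (scan ON.table r a) := by
  show a :: strict (scan ON.table r a) (fun a' => cyc r m a') = _
  rw [strict_eq]

/-- The labels seen from a point. -/
noncomputable def vecR (a : ℕ) (cs : List ℕ) : List ℕ := cs.map fun c => lbl a c

/-- All labels seen from a point match. -/
noncomputable def selfB (a : ℕ) : List ℕ → List ℕ → Bool
  | c :: cs, l :: ls => Nat.beq (lbl a c) l && selfB a cs ls
  | _, _ => true

theorem selfB_vecR (a : ℕ) : ∀ cs : List ℕ, selfB a cs (vecR a cs) = true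
  | [] => rfl
  | c :: cs => by
    rw [vecR, List.map_cons, selfB, Bool.and_eq_true, Nat.beq_eq]
    exact ⟨rfl, selfB_vecR a cs⟩

/-- All labels from the listed points match. -/
noncomputable def matchB : List ℕ → List ℕ → ℕ → Bool
  | c :: cs, l :: ls, b => Nat.beq (lbl c b) l && matchB cs ls b
  | _, _, _ => true

/-- The labels of a point from the listed points. -/
noncomputable def vecL (cs : List ℕ) (b : ℕ) : List ℕ := cs.map fun c => lbl c b

theorem matchB_vecL : ∀ (cs : List ℕ) (b : ℕ), matchB cs (vecL cs b) b = true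
  | [], _ => rfl
  | c :: cs, b => by
    rw [vecL, List.map_cons, matchB, Bool.and_eq_true, Nat.beq_eq]
    exact ⟨rfl, matchB_vecL cs b⟩

/-- Determined points: a point, its cycle and its labels from the points known before it. -/
abbrev Step : Type := ℕ × List ℕ × List ℕ

/-- Validity of the steps. -/
noncomputable def stepsB (rV : List ℕ) (m : ℕ) : List ℕ → List Step → Bool
  | _, [] => true
  | K, (b, cb, v) :: rest =>
    Nat.blt b 122760 && listEq (cyc rV m b) cb && listEq (vecL K b) v && stepsB rV m (K ++ cb) rest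

/-- The steps determine their points. -/
noncomputable def uniqB (k : ℕ) : List ℕ → List Step → Bool
  | _, [] => true
  | K, (b, cb, v) :: rest =>
    (!Nat.beq (ON.lab.get 20 k) (ON.lab.get 20 b) || Nat.beq k b || !matchB K v k) && uniqB k (K ++ cb) rest

/-- A certificate. -/
structure Inter where
  /-- the first word -/
  vW : List ℕ
  /-- the second word -/
  wW : List ℕ
  /-- the columns of the second word -/
  rw' : List ℕ
  /-- the point followed -/
  r : ℕ
  /-- the length of its cycle -/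
  m : ℕ
  /-- the cycle -/
  cv : List ℕ
  /-- its labels from the point -/
  lv : List ℕ
  /-- the determined points -/
  steps : List Step
  /-- the intertwining elements with their images of the point -/
  els : List (ℕ × List ℕ)

variable (C : Inter)

/-- Validity of the header. -/
noncomputable def Inter.headB : Bool :=
  wordB C.vW && wordB C.wW && Nat.blt C.r 122760 && Nat.beq (ON.lab.get 20 C.r) 3 && listEq (rv C.wW) C.rw' &&
    listEq (cyc (rv C.vW) C.m C.r) C.cv && listEq (vecR C.r C.cv) C.lv &&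
    stepsB (rv C.vW) C.m (0 :: C.cv) C.steps &&
    ON.Sub.base.all (fun p => Nat.beq p 0 || C.steps.any fun s => Nat.beq s.1 p)

/-- Every possible image of the point is listed. -/
noncomputable def Inter.screenB (k : ℕ) : Bool :=
  !selfB k (cyc C.rw' C.m k) C.lv || C.els.any fun e => Nat.beq e.1 k

/-- The listed elements intertwine and fix the first point. -/
noncomputable def Inter.elsB : Bool :=
  C.els.all fun e => wordB e.2 && Nat.beq (app e.2 C.r) e.1 && Nat.beq (app e.2 0) 0 &&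
    eqW (e.2 ++ C.vW) (C.wW ++ e.2)

/-- The whole certificate. -/
structure Inter.Valid : Prop where
  head : C.headB = true
  uniq : ∀ k < 122760, uniqB k (0 :: C.cv) C.steps = true
  screen : ∀ k < 122760, ON.lab.get 20 k = 3 → C.screenB k = true
  els : C.elsB = true

variable (hreach : ∀ a : Fin 122760, reach 20 a = true)
include hreach

theorem vecR_move {v w g : Cfsg.Spor.ON} (hg : g * v = w * g) {r r' : List ℕ}
    (hv : ∀ k : Fin 122760, ((ON.π v k : Fin 122760) : ℕ) = scan ON.table r k)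
    (hw : ∀ k : Fin 122760, ((ON.π w k : Fin 122760) : ℕ) = scan ON.table r' k) :
    ∀ (m : ℕ) (a c : Fin 122760),
      vecR (ON.π g a : Fin 122760) (cyc r' m (ON.π g c : Fin 122760)) = vecR a (cyc r m c)
  | 0, _, _ => by simp only [cyc_zero, vecR, List.map_nil]
  | m + 1, a, c => by
    rw [cyc_succ, cyc_succ, vecR, vecR, List.map_cons, List.map_cons, lbl_move hreach, ← hw, ← hv]
    refine congrArg (List.cons _) ?_
    rw [← Equiv.Perm.mul_apply, ← map_mul, ← hg, map_mul, Equiv.Perm.mul_apply]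
    exact vecR_move hg hv hw m a (ON.π v c)

omit hreach in
theorem cyc_fixed {v h : Cfsg.Spor.ON} (hh : h * v = v * h) {r : List ℕ}
    (hv : ∀ k : Fin 122760, ((ON.π v k : Fin 122760) : ℕ) = scan ON.table r k) :
    ∀ (m : ℕ) (a : Fin 122760), ON.π h a = a → ∀ c ∈ cyc r m a, ∃ hc : c < 122760, ON.π h ⟨c, hc⟩ = ⟨c, hc⟩
  | 0, _, _ => by simp [cyc_zero]
  | m + 1, a, ha => by
    rw [cyc_succ, ← hv]
    refine List.forall_mem_cons.2 ⟨⟨a.2, ha⟩, cyc_fixed hh hv m _ ?_⟩
    rw [← Equiv.Perm.mul_apply, ← map_mul, hh, map_mul, Equiv.Perm.mul_apply, ha]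

theorem steps_fixed {v h : Cfsg.Spor.ON} (hh : h * v = v * h) (h0 : ON.π h ⟨0, by omega⟩ = ⟨0, by omega⟩)
    {r : List ℕ} (hv : ∀ k : Fin 122760, ((ON.π v k : Fin 122760) : ℕ) = scan ON.table r k) (m : ℕ) :
    ∀ (st : List Step) (K : List ℕ), (∀ c ∈ K, ∃ hc : c < 122760, ON.π h ⟨c, hc⟩ = ⟨c, hc⟩) →
      stepsB r m K st = true → (∀ k < 122760, uniqB k K st = true) →
      ∀ s ∈ st, ∃ hc : s.1 < 122760, ON.π h ⟨s.1, hc⟩ = ⟨s.1, hc⟩
  | [], _, _, _, _ => by simp
  | (b, cb, vv) :: rest, K, hK, hs, hu => by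
    simp only [stepsB, Bool.and_eq_true, Nat.blt_eq] at hs
    obtain ⟨⟨⟨hb, hcb⟩, hvv⟩, hrest⟩ := hs
    have hfix : ON.π h ⟨b, hb⟩ = ⟨b, hb⟩ := by
      have hk := hu _ (ON.π h ⟨b, hb⟩).2
      simp only [uniqB, Bool.and_eq_true, Bool.or_eq_true, Bool.not_eq_true'] at hk
      rcases hk.1 with (hl | he) | hm
      · rw [lab_stab h0] at hl
        simp at hl
      · exact Fin.ext (Nat.eq_of_beq_eq_true he)
      · have hvec : vecL K (ON.π h ⟨b, hb⟩ : Fin 122760) = vv := by
          rw [← listEq_eq _ _ hvv]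
          refine List.map_congr_left fun c hc => ?_
          obtain ⟨hc', hcf⟩ := hK c hc
          have := lbl_move hreach h ⟨c, hc'⟩ ⟨b, hb⟩
          rwa [hcf] at this
        rw [← hvec, matchB_vecL] at hm
        exact absurd hm (by simp)
    refine List.forall_mem_cons.2 ⟨⟨hb, hfix⟩, steps_fixed hh h0 hv m rest (K ++ cb) (fun c hc => ?_) hrest
      fun k hk => ?_⟩
    · rcases List.mem_append.1 hc with hc | hc
      · exact hK c hc
      · rw [← listEq_eq _ _ hcb] at hc
        exact cyc_fixed hh hv m ⟨b, hb⟩ hfix c hc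
    · have := hu k hk
      simp only [uniqB, Bool.and_eq_true] at this
      exact this.2

theorem Inter.complete (hC : C.Valid) {g : Cfsg.Spor.ON} (hg : g * ev C.vW = ev C.wW * g)
    (hg0 : ON.π g ⟨0, by omega⟩ = ⟨0, by omega⟩) : ∃ e ∈ C.els, g = ev e.2 := by
  have hh := hC.head
  simp only [Inter.headB, Bool.and_eq_true, List.all_eq_true, Bool.or_eq_true, List.any_eq_true, Nat.beq_eq,
    Nat.blt_eq] at hh
  obtain ⟨⟨⟨⟨⟨⟨⟨⟨hvW, hwW⟩, hr⟩, hlab⟩, hrw⟩, hcv⟩, hlv⟩, hsteps⟩, hbase⟩ := hh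
  have hrw := listEq_eq _ _ hrw
  have hcv := listEq_eq _ _ hcv
  have hlv := listEq_eq _ _ hlv
  have hv := fun k => ev_app hvW k
  have hw := fun k => ev_app hwW k
  let R : Fin 122760 := ⟨C.r, hr⟩
  let a := ON.π g R
  have hself : vecR (a : ℕ) (cyc C.rw' C.m a) = C.lv := by
    rw [← hrw, ← hlv, ← hcv]
    exact vecR_move hreach hg hv hw C.m R R
  have hs := hC.screen a a.2 (by rw [lab_stab hg0 R]; exact hlab)
  simp only [Inter.screenB, Bool.or_eq_true, Bool.not_eq_true', List.any_eq_true, Nat.beq_eq] at hs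
  rcases hs with hs | ⟨e, he, hea⟩
  · rw [← hself, selfB_vecR] at hs
    exact absurd hs (by simp)
  refine ⟨e, he, ?_⟩
  have hel := hC.els
  simp only [Inter.elsB, Bool.and_eq_true, List.all_eq_true, Nat.beq_eq] at hel
  obtain ⟨⟨⟨hew, her⟩, he0⟩, hcomm⟩ := hel e he
  have hc := eqW_spec hcomm
  rw [ev_append, ev_append] at hc
  set k := ev e.2 with hk
  have hkR : ON.π k R = a := Fin.ext (by rw [hk, ev_app hew]; exact her.trans hea)
  have hk0 : ON.π k ⟨0, by omega⟩ = ⟨0, by omega⟩ := Fin.ext (by rw [hk, ev_app hew]; exact he0)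
  have hh' : k⁻¹ * g * ev C.vW = ev C.vW * (k⁻¹ * g) := by
    have hc' : k⁻¹ * ev C.wW = ev C.vW * k⁻¹ := by
      rw [eq_mul_inv_iff_mul_eq, mul_assoc, ← hc, ← mul_assoc, inv_mul_cancel, one_mul]
    rw [mul_assoc, hg, ← mul_assoc, hc', mul_assoc]
  have hfix0 : ON.π (k⁻¹ * g) ⟨0, by omega⟩ = ⟨0, by omega⟩ := by
    rw [map_mul, Equiv.Perm.mul_apply, hg0, map_inv, Equiv.Perm.inv_def, Equiv.symm_apply_eq, hk0]
  have hfixR : ON.π (k⁻¹ * g) R = R := by
    rw [map_mul, Equiv.Perm.mul_apply, map_inv, Equiv.Perm.inv_def, Equiv.symm_apply_eq, hkR]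
  have hK : ∀ c ∈ 0 :: C.cv, ∃ hc : c < 122760, ON.π (k⁻¹ * g) ⟨c, hc⟩ = ⟨c, hc⟩ := by
    refine List.forall_mem_cons.2 ⟨⟨by omega, hfix0⟩, fun c hc => ?_⟩
    rw [← hcv] at hc
    exact cyc_fixed hh' hv C.m R hfixR c hc
  have hone : k⁻¹ * g = 1 := ON.Sub.eq_one_of_fix _ fun p hp => by
    rcases hbase p hp with h | ⟨s, hs', hsp⟩
    · rw [show p = (⟨0, by omega⟩ : Fin 122760) from Fin.ext h]; exact hfix0
    · obtain ⟨hlt, hf⟩ := steps_fixed hreach hh' hfix0 hv C.m C.steps _ hK hsteps hC.uniq s hs'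
      rwa [show p = ⟨s.1, hlt⟩ from Fin.ext hsp.symm]
  exact (inv_mul_eq_one.1 hone).symm

end CfsgLib.ONAut
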