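import Cfsg.Agent.Lib.ONAut.Cert

/-! Data for the automorphisms of the O'Nan group. -/

set_option autoImplicit false
set_option linter.all false

namespace CfsgLib.ONAut

/-- An element of order 19. -/
def xW : List ℕ := [1, 2, 3, 4, 5, 6]

/-- An element of order 6 normalising it. -/
def zW : List ℕ := [4, 2, 3, 4, 5, 6, 3, 4, 2, 3, 4, 5, 2, 3, 4, 3, 4, 5, 2, 3, 4, 3, 4]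

/-- An element commuting with the second one. -/
def sW : List ℕ := [6, 5, 1, 2, 0, 4, 3, 4, 5, 0, 3, 4, 5, 3, 4, 2, 3, 4, 5, 6, 3, 4, 5, 2]

/-- Its image under an outer automorphism. -/
def sW2 : List ℕ := [5, 0, 5, 6, 2, 3, 4, 5, 2, 3, 4, 2, 3, 0, 2, 0, 6, 5, 3, 4, 3, 4, 2, 3, 4, 5, 3, 4, 2, 3, 4, 1, 2, 3, 4, 5, 6, 4, 3, 4, 5, 2, 3, 4, 1, 2, 1]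

/-- Determined points. -/
def stepsX : List Step := [
  (31, [31, 1862, 369, 1094, 1591, 57246, 104744, 85514, 3014, 1261, 353, 1747, 47, 1269, 28041, 100065, 106212, 19035, 852], [4, 1, 1, 2, 1, 1, 3, 1, 3, 1, 1, 2, 1, 1, 1, 2, 1, 1, 2, 1]),
  (34, [34, 1190, 809, 8237, 53458, 90055, 27813, 75880, 6455, 2253, 198, 768, 1036, 17521, 71845, 31955, 31207, 10109, 873], [4, 4, 2, 1, 1, 1, 1, 2, 1, 1, 3, 1, 4, 2, 1, 3, 2, 2, 3, 1, 2, 2, 3, 4, 1, 4, 2, 1, 2, 4, 4, 2, 1, 1, 1, 1, 3, 1, 2]),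
  (210, [210, 2295, 59814, 47231, 43768, 108887, 45996, 112402, 8583, 584, 11268, 16632, 80222, 104408, 98485, 68444, 96603, 66698, 3695], [4, 1, 2, 2, 2, 1, 1, 1, 1, 2, 2, 1, 1, 4, 2, 4, 2, 2, 1, 2, 4, 2, 2, 4, 2, 1, 2, 1, 2, 2, 4, 3, 1, 2, 1, 1, 2, 2, 3, 2, 1, 2, 1, 4, 2, 2, 4, 2, 2, 4, 1, 3, 1, 2, 1, 1, 1, 2])]

/-- Determined points. -/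
def stepsZ : List Step := [
  (56, [56, 21751, 54888, 19106, 64756, 116493], [3, 2, 3, 3, 1, 1, 3]),
  (31, [31, 2025, 19452, 85514, 7574, 6458], [4, 1, 1, 1, 4, 1, 4, 2, 2, 1, 2, 1, 1]),
  (34, [34, 3588, 49472, 67120, 42464, 54159], [4, 4, 1, 2, 1, 2, 1, 2, 1, 2, 3, 2, 1, 2, 2, 1, 1, 1, 1]),
  (210, [210, 68091, 27833, 112195, 26410, 9089], [4, 2, 2, 1, 1, 2, 4, 1, 2, 2, 2, 1, 2, 4, 2, 2, 1, 1, 1, 2, 1, 1, 3, 2, 1])]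

/-- The stabiliser centraliser of the first element. -/
def centX : Inter := ⟨xW, xW, [6, 5, 4, 3, 2, 1], 15437, 19, [15437, 77378, 77742, 77879, 83324, 25802, 26913, 116724, 50658, 12843, 49065, 96766, 39417, 112450, 44001, 7283, 34938, 95698, 18482], [0, 2, 1, 2, 2, 2, 2, 3, 2, 1, 1, 2, 3, 2, 2, 2, 2, 1, 2], stepsX, [
  (7283, [1, 2, 3, 4, 5, 6, 1, 2, 3, 4, 5, 6, 1, 2, 3, 4, 5, 6, 1, 2, 3, 4, 5, 6, 1, 2, 3, 4, 5, 6, 1, 2, 3, 4, 5, 6, 1, 2, 3, 4, 5, 6, 1, 2, 3, 4, 5, 6, 1, 2, 3, 4, 5, 6, 1, 2, 3, 4, 5, 6, 1, 2, 3, 4, 5, 6, 1, 2, 3, 4, 5, 6, 1, 2, 3, 4, 5, 6, 1, 2, 3, 4, 5, 6, 1, 2, 3, 4, 5, 6]),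
  (12843, [1, 2, 3, 4, 5, 6, 1, 2, 3, 4, 5, 6, 1, 2, 3, 4, 5, 6, 1, 2, 3, 4, 5, 6, 1, 2, 3, 4, 5, 6, 1, 2, 3, 4, 5, 6, 1, 2, 3, 4, 5, 6, 1, 2, 3, 4, 5, 6, 1, 2, 3, 4, 5, 6]),
  (15437, []),
  (18482, [1, 2, 3, 4, 5, 6, 1, 2, 3, 4, 5, 6, 1, 2, 3, 4, 5, 6, 1, 2, 3, 4, 5, 6, 1, 2, 3, 4, 5, 6, 1, 2, 3, 4, 5, 6, 1, 2, 3, 4, 5, 6, 1, 2, 3, 4, 5, 6, 1, 2, 3, 4, 5, 6, 1, 2, 3, 4, 5, 6, 1, 2, 3, 4, 5, 6, 1, 2, 3, 4, 5, 6, 1, 2, 3, 4, 5, 6, 1, 2, 3, 4, 5, 6, 1, 2, 3, 4, 5, 6, 1, 2, 3, 4, 5, 6, 1, 2, 3, 4, 5, 6, 1, 2, 3, 4, 5, 6]),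
  (25802, [1, 2, 3, 4, 5, 6, 1, 2, 3, 4, 5, 6, 1, 2, 3, 4, 5, 6, 1, 2, 3, 4, 5, 6, 1, 2, 3, 4, 5, 6]),
  (26913, [1, 2, 3, 4, 5, 6, 1, 2, 3, 4, 5, 6, 1, 2, 3, 4, 5, 6, 1, 2, 3, 4, 5, 6, 1, 2, 3, 4, 5, 6, 1, 2, 3, 4, 5, 6]),
  (34938, [1, 2, 3, 4, 5, 6, 1, 2, 3, 4, 5, 6, 1, 2, 3, 4, 5, 6, 1, 2, 3, 4, 5, 6, 1, 2, 3, 4, 5, 6, 1, 2, 3, 4, 5, 6, 1, 2, 3, 4, 5, 6, 1, 2, 3, 4, 5, 6, 1, 2, 3, 4, 5, 6, 1, 2, 3, 4, 5, 6, 1, 2, 3, 4, 5, 6, 1, 2, 3, 4, 5, 6, 1, 2, 3, 4, 5, 6, 1, 2, 3, 4, 5, 6, 1, 2, 3, 4, 5, 6, 1, 2, 3, 4, 5, 6]),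
  (39417, [1, 2, 3, 4, 5, 6, 1, 2, 3, 4, 5, 6, 1, 2, 3, 4, 5, 6, 1, 2, 3, 4, 5, 6, 1, 2, 3, 4, 5, 6, 1, 2, 3, 4, 5, 6, 1, 2, 3, 4, 5, 6, 1, 2, 3, 4, 5, 6, 1, 2, 3, 4, 5, 6, 1, 2, 3, 4, 5, 6, 1, 2, 3, 4, 5, 6, 1, 2, 3, 4, 5, 6]),
  (44001, [1, 2, 3, 4, 5, 6, 1, 2, 3, 4, 5, 6, 1, 2, 3, 4, 5, 6, 1, 2, 3, 4, 5, 6, 1, 2, 3, 4, 5, 6, 1, 2, 3, 4, 5, 6, 1, 2, 3, 4, 5, 6, 1, 2, 3, 4, 5, 6, 1, 2, 3, 4, 5, 6, 1, 2, 3, 4, 5, 6, 1, 2, 3, 4, 5, 6, 1, 2, 3, 4, 5, 6, 1, 2, 3, 4, 5, 6, 1, 2, 3, 4, 5, 6]),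
  (49065, [1, 2, 3, 4, 5, 6, 1, 2, 3, 4, 5, 6, 1, 2, 3, 4, 5, 6, 1, 2, 3, 4, 5, 6, 1, 2, 3, 4, 5, 6, 1, 2, 3, 4, 5, 6, 1, 2, 3, 4, 5, 6, 1, 2, 3, 4, 5, 6, 1, 2, 3, 4, 5, 6, 1, 2, 3, 4, 5, 6]),
  (50658, [1, 2, 3, 4, 5, 6, 1, 2, 3, 4, 5, 6, 1, 2, 3, 4, 5, 6, 1, 2, 3, 4, 5, 6, 1, 2, 3, 4, 5, 6, 1, 2, 3, 4, 5, 6, 1, 2, 3, 4, 5, 6, 1, 2, 3, 4, 5, 6]),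
  (77378, [1, 2, 3, 4, 5, 6]),
  (77742, [1, 2, 3, 4, 5, 6, 1, 2, 3, 4, 5, 6]),
  (77879, [1, 2, 3, 4, 5, 6, 1, 2, 3, 4, 5, 6, 1, 2, 3, 4, 5, 6]),
  (83324, [1, 2, 3, 4, 5, 6, 1, 2, 3, 4, 5, 6, 1, 2, 3, 4, 5, 6, 1, 2, 3, 4, 5, 6]),
  (95698, [1, 2, 3, 4, 5, 6, 1, 2, 3, 4, 5, 6, 1, 2, 3, 4, 5, 6, 1, 2, 3, 4, 5, 6, 1, 2, 3, 4, 5, 6, 1, 2, 3, 4, 5, 6, 1, 2, 3, 4, 5, 6, 1, 2, 3, 4, 5, 6, 1, 2, 3, 4, 5, 6, 1, 2, 3, 4, 5, 6, 1, 2, 3, 4, 5, 6, 1, 2, 3, 4, 5, 6, 1, 2, 3, 4, 5, 6, 1, 2, 3, 4, 5, 6, 1, 2, 3, 4, 5, 6, 1, 2, 3, 4, 5, 6, 1, 2, 3, 4, 5, 6]),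
  (96766, [1, 2, 3, 4, 5, 6, 1, 2, 3, 4, 5, 6, 1, 2, 3, 4, 5, 6, 1, 2, 3, 4, 5, 6, 1, 2, 3, 4, 5, 6, 1, 2, 3, 4, 5, 6, 1, 2, 3, 4, 5, 6, 1, 2, 3, 4, 5, 6, 1, 2, 3, 4, 5, 6, 1, 2, 3, 4, 5, 6, 1, 2, 3, 4, 5, 6]),
  (112450, [1, 2, 3, 4, 5, 6, 1, 2, 3, 4, 5, 6, 1, 2, 3, 4, 5, 6, 1, 2, 3, 4, 5, 6, 1, 2, 3, 4, 5, 6, 1, 2, 3, 4, 5, 6, 1, 2, 3, 4, 5, 6, 1, 2, 3, 4, 5, 6, 1, 2, 3, 4, 5, 6, 1, 2, 3, 4, 5, 6, 1, 2, 3, 4, 5, 6, 1, 2, 3, 4, 5, 6, 1, 2, 3, 4, 5, 6]),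
  (116724, [1, 2, 3, 4, 5, 6, 1, 2, 3, 4, 5, 6, 1, 2, 3, 4, 5, 6, 1, 2, 3, 4, 5, 6, 1, 2, 3, 4, 5, 6, 1, 2, 3, 4, 5, 6, 1, 2, 3, 4, 5, 6])]⟩

/-- A word carrying the first point. -/
def tW0 : List ℕ := []

/-- Intertwiners in the stabiliser. -/
def interZ0 : Inter := ⟨zW, [4, 2, 3, 4, 5, 6, 3, 4, 2, 3, 4, 5, 2, 3, 4, 3, 4, 5, 2, 3, 4, 3, 4], [4, 3, 4, 3, 2, 5, 4, 3, 4, 3, 2, 5, 4, 3, 2, 4, 3, 6, 5, 4, 3, 2, 4], 15439, 6, [15439, 22588, 22882, 81116, 96323, 23054], [0, 3, 3, 3, 3, 3], stepsZ, [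
  (15439, []),
  (22588, [4, 2, 3, 4, 5, 6, 3, 4, 2, 3, 4, 5, 2, 3, 4, 3, 4, 5, 2, 3, 4, 3, 4]),
  (22882, [5, 4, 2, 3, 4, 1, 2, 3, 4, 5, 6, 3, 4, 5, 3, 4, 2, 3, 4, 5, 6, 3, 4, 5, 2, 3, 4, 1]),
  (23054, [4, 3, 4, 5, 3, 4, 2, 3, 4, 5, 6, 3, 4, 2, 3, 4, 5, 2, 3, 4, 3, 4, 2]),
  (50064, [6, 5, 4, 1, 2, 3, 4, 5, 6, 3, 4, 2, 3, 4, 5, 4, 1, 2, 3, 4, 1, 2, 3, 4, 5, 4, 3]),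
  (52331, [6, 5, 2, 3, 4, 1, 2, 3, 4, 5, 3, 4, 2, 3, 4, 2, 3, 4, 5, 4, 3, 2]),
  (54172, [5, 6, 4, 3, 4, 5, 2, 3, 4, 3, 4, 5, 2, 3, 4, 1, 2, 3, 4, 5, 3, 4, 3, 4, 1, 2, 1]),
  (81116, [4, 3, 4, 2, 3, 4, 5, 4, 3, 4, 2, 3, 4, 1, 2, 3, 4, 5, 3, 4, 3, 4, 2, 3, 4]),
  (83308, [6, 5, 4, 1, 2, 3, 4, 5, 1, 2, 3, 4, 1, 2, 3, 4, 5, 4, 2, 3, 4, 1, 2, 3, 4, 5, 6, 1, 2, 1]),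
  (96220, [4, 5, 3, 4, 2, 3, 4, 5, 4, 3, 4, 2, 3, 4, 5, 4, 3, 4, 2, 3, 4, 5, 3, 4, 2, 3, 1, 2, 1]),
  (96323, [6, 4, 5, 3, 4, 2, 3, 4, 1, 2, 3, 4, 5, 3, 4, 3, 4, 5, 2, 3, 4, 3, 4, 2, 3, 4, 5, 1]),
  (112950, [2, 3, 4, 5, 4, 3, 4, 2, 3, 4, 5, 2, 3, 4, 3, 4, 5, 6, 2, 3, 1, 2])]⟩

/-- A word carrying the first point. -/
def tW1 : List ℕ := [6, 5, 1, 2, 0, 4, 3, 4, 5, 0]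

/-- Intertwiners in the stabiliser. -/
def interZ1 : Inter := ⟨zW, [7, 5, 4, 3, 4, 7, 2, 1, 5, 6, 4, 2, 3, 4, 5, 6, 3, 4, 2, 3, 4, 5, 2, 3, 4, 3, 4, 5, 2, 3, 4, 3, 4, 6, 5, 1, 2, 0, 4, 3, 4, 5, 0], [7, 5, 4, 3, 4, 7, 2, 1, 5, 6, 4, 3, 4, 3, 2, 5, 4, 3, 4, 3, 2, 5, 4, 3, 2, 4, 3, 6, 5, 4, 3, 2, 4, 6, 5, 1, 2, 0, 4, 3, 4, 5, 0], 15439, 6, [15439, 22588, 22882, 81116, 96323, 23054], [0, 3, 3, 3, 3, 3], stepsZ, [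
  (9367, [4, 5, 6, 5, 3, 4, 1, 2, 3, 4, 5, 2, 3, 1, 2, 1]),
  (17644, [1, 2, 3, 4, 3, 4, 5, 4, 3, 4, 1, 2, 3, 4, 5, 3, 4, 2, 3, 4, 5, 6, 2, 3, 1, 2]),
  (17852, [6, 2, 3, 4, 5, 3, 4, 3, 4, 2, 3, 4, 5, 4, 3, 4, 1, 2, 3, 4, 5, 1]),
  (22704, [3, 4, 3, 4, 5, 4, 1, 2, 3, 4, 2, 3, 4, 5, 6, 2, 3, 4, 5, 3, 4, 2, 3, 4, 5, 4, 3]),
  (28101, [4, 3, 4, 5, 3, 4, 2, 3, 4, 5, 6, 1, 2, 3, 4, 5, 3, 4, 2, 3, 4, 3, 1]),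
  (32818, [2, 3, 4, 5, 3, 4, 1, 2, 3, 4, 5, 6, 2, 3, 4, 5, 3, 4, 2, 3, 4, 5, 2, 3, 4, 2, 1]),
  (35533, [6, 5, 3, 4, 2, 3, 4, 2, 3, 4, 5, 4, 2, 3, 4, 2, 3, 4, 5, 6, 4, 1, 2, 1]),
  (53101, [3, 4, 5, 3, 4, 2, 3, 4, 5, 6, 3, 4, 5, 2]),
  (83884, [6, 1, 2, 3, 4, 5, 3, 4, 2, 3, 4, 5, 4, 3, 4, 2, 3, 4, 1, 2, 3, 4, 5, 6, 3, 4, 5, 3, 4]),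
  (85226, [6, 3, 4, 5, 3, 4, 2, 3, 4, 5, 3, 4, 2, 3, 4, 5, 2, 3, 4, 1, 2, 3, 4, 5, 2, 3, 4, 3, 1, 2]),
  (103410, [5, 6, 4, 3, 4, 5, 2, 3, 4, 2, 3, 4, 5, 2, 3, 4, 3, 4, 5, 4, 3, 4, 1, 2, 1]),
  (111929, [4, 5, 6, 3, 4, 1, 2, 3, 4, 5, 2, 3, 4, 3, 4, 5, 2, 3, 4, 3, 1, 2, 1])]⟩

/-- A word carrying the first point. -/
def tW2 : List ℕ := [5, 4, 3, 4, 5, 2, 3, 4, 7, 5, 3, 0]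

/-- Intertwiners in the stabiliser. -/
def interZ2 : Inter := ⟨zW, [7, 3, 5, 0, 4, 3, 2, 5, 4, 3, 4, 5, 4, 2, 3, 4, 5, 6, 3, 4, 2, 3, 4, 5, 2, 3, 4, 3, 4, 5, 2, 3, 4, 3, 4, 5, 4, 3, 4, 5, 2, 3, 4, 7, 5, 3, 0], [7, 3, 5, 0, 4, 3, 2, 5, 4, 3, 4, 5, 4, 3, 4, 3, 2, 5, 4, 3, 4, 3, 2, 5, 4, 3, 2, 4, 3, 6, 5, 4, 3, 2, 4, 5, 4, 3, 4, 5, 2, 3, 4, 7, 5, 3, 0], 15439, 6, [15439, 22588, 22882, 81116, 96323, 23054], [0, 3, 3, 3, 3, 3], stepsZ, []⟩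

/-- A word carrying the first point. -/
def tW3 : List ℕ := [4, 5, 0, 2, 0, 2, 3, 4, 2, 3, 4, 5, 0]

/-- Intertwiners in the stabiliser. -/
def interZ3 : Inter := ⟨zW, [7, 5, 4, 3, 2, 4, 3, 2, 7, 2, 7, 5, 4, 4, 2, 3, 4, 5, 6, 3, 4, 2, 3, 4, 5, 2, 3, 4, 3, 4, 5, 2, 3, 4, 3, 4, 4, 5, 0, 2, 0, 2, 3, 4, 2, 3, 4, 5, 0], [7, 5, 4, 3, 2, 4, 3, 2, 7, 2, 7, 5, 4, 4, 3, 4, 3, 2, 5, 4, 3, 4, 3, 2, 5, 4, 3, 2, 4, 3, 6, 5, 4, 3, 2, 4, 4, 5, 0, 2, 0, 2, 3, 4, 2, 3, 4, 5, 0], 15439, 6, [15439, 22588, 22882, 81116, 96323, 23054], [0, 3, 3, 3, 3, 3], stepsZ, []⟩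

/-- A word carrying the first point. -/
def tW4 : List ℕ := [3, 7, 4, 5, 0, 4, 2, 3, 4, 2, 3, 4, 5, 0]

/-- Intertwiners in the stabiliser. -/
def interZ4 : Inter := ⟨zW, [7, 5, 4, 3, 2, 4, 3, 2, 4, 7, 5, 4, 0, 3, 4, 2, 3, 4, 5, 6, 3, 4, 2, 3, 4, 5, 2, 3, 4, 3, 4, 5, 2, 3, 4, 3, 4, 3, 7, 4, 5, 0, 4, 2, 3, 4, 2, 3, 4, 5, 0], [7, 5, 4, 3, 2, 4, 3, 2, 4, 7, 5, 4, 0, 3, 4, 3, 4, 3, 2, 5, 4, 3, 4, 3, 2, 5, 4, 3, 2, 4, 3, 6, 5, 4, 3, 2, 4, 3, 7, 4, 5, 0, 4, 2, 3, 4, 2, 3, 4, 5, 0], 15439, 6, [15439, 22588, 22882, 81116, 96323, 23054], [0, 3, 3, 3, 3, 3], stepsZ, [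
  (11122, [5, 6, 4, 3, 4, 2, 3, 4, 5, 2, 3, 4, 2, 3, 4, 5, 4, 2, 3, 4, 2, 3, 4, 5, 6, 2]),
  (11994, [4, 5, 3, 4, 2, 3, 4, 5, 4, 3, 4, 2, 3, 4, 1, 2, 3, 4, 5, 6, 4, 5, 1]),
  (14428, [4, 5, 3, 4, 1, 2, 3, 4, 5, 6, 1, 2, 3, 4, 5, 2, 3, 4, 2, 3, 4, 5, 4, 1, 2, 3, 4, 2, 3, 4, 5, 6, 1, 2, 1]),
  (17673, [5, 4, 2, 3, 4, 5, 6, 2, 3, 4, 5, 3, 4, 2, 3, 4, 5, 4, 1, 2, 3, 2]),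
  (22848, [4, 3, 4, 5, 6, 3, 4, 2, 3, 4, 5, 4, 2, 3, 4, 2, 3, 4, 5, 2, 3, 4]),
  (24902, [4, 5, 6, 4, 3, 4, 5, 4, 3, 4, 2, 3, 4, 5, 1, 2, 3, 4, 3, 4, 5, 6, 4, 1, 2, 3, 4, 5, 2, 3, 4, 1, 2, 3, 4]),
  (35259, [4, 3, 4, 2, 3, 4, 5, 3, 4, 2, 3, 4, 5, 4, 2, 3, 4, 2, 3, 4, 5, 6, 2, 3, 4, 2, 3]),
  (49016, [4, 5, 3, 4, 3, 4, 5, 6, 4, 2, 3, 4, 5, 2, 3, 4, 2, 3, 4, 5, 4, 1, 2, 3, 4, 3, 1, 2, 1]),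
  (78935, [4, 5, 4, 1, 2, 3, 4, 1, 2, 3, 4, 5, 4, 2, 3, 4, 2, 3, 4, 5, 6, 4, 5, 2, 3, 2, 1]),
  (100415, [2, 3, 4, 5, 6, 5, 4, 3, 4, 5, 4, 2, 3, 4, 1, 2, 3, 4, 5, 4, 2, 3, 4, 3]),
  (100536, [6, 2, 3, 4, 1, 2, 3, 4, 5, 4, 3, 4, 1, 2, 3, 4, 5, 6, 3, 4, 5, 2, 3, 4, 2, 3]),
  (106829, [3, 4, 5, 2, 3, 4, 1, 2, 3, 4, 5, 6, 3, 4, 2, 3, 4, 5, 2, 3, 4, 2, 3, 4, 5, 4, 2, 3, 4, 2, 3, 4, 5, 2, 3, 4, 3, 2])]⟩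

/-- A word carrying the first point. -/
def tW5 : List ℕ := [7, 2, 7, 5, 4, 3, 4, 5, 3, 4, 2, 3, 1, 2, 0]

/-- Intertwiners in the stabiliser. -/
def interZ5 : Inter := ⟨zW, [7, 2, 1, 3, 2, 4, 3, 5, 4, 3, 4, 5, 0, 2, 0, 4, 2, 3, 4, 5, 6, 3, 4, 2, 3, 4, 5, 2, 3, 4, 3, 4, 5, 2, 3, 4, 3, 4, 7, 2, 7, 5, 4, 3, 4, 5, 3, 4, 2, 3, 1, 2, 0], [7, 2, 1, 3, 2, 4, 3, 5, 4, 3, 4, 5, 0, 2, 0, 4, 3, 4, 3, 2, 5, 4, 3, 4, 3, 2, 5, 4, 3, 2, 4, 3, 6, 5, 4, 3, 2, 4, 7, 2, 7, 5, 4, 3, 4, 5, 3, 4, 2, 3, 1, 2, 0], 15439, 6, [15439, 22588, 22882, 81116, 96323, 23054], [0, 3, 3, 3, 3, 3], stepsZ, [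
  (15294, [4, 5, 6, 1, 2, 3, 4, 5, 3, 4, 2, 3, 4, 5, 3, 4, 2, 3, 4, 5, 6, 2, 3, 4, 5, 4, 1, 2, 1]),
  (22724, [3, 4, 5, 2, 3, 4, 2, 3, 4, 5, 2, 3, 4, 2, 3, 4, 5, 6, 4, 2, 3, 4, 5, 2, 3]),
  (37359, [5, 4, 1, 2, 3, 4, 5, 6, 2, 3, 4, 5, 4, 2, 3, 4, 2, 3, 4, 5, 4, 1]),
  (43911, [2, 3, 4, 5, 6, 3, 4, 5, 4, 3, 4, 2, 3, 4, 5, 2, 3, 4, 2, 3, 4, 5, 4, 3, 4, 3, 1]),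
  (52022, [6, 3, 4, 5, 3, 4, 2, 3, 4, 5, 2, 3, 4, 3, 4, 5, 4, 3, 4, 2, 3, 4, 2]),
  (57951, [4, 5, 2, 3, 4, 2, 3, 4, 5, 2, 3, 4, 2, 3, 4, 5, 2, 3, 4, 3, 1, 2, 1]),
  (69888, [6, 5, 1, 2, 3, 4, 2, 3, 4, 2, 3, 4, 5, 4, 3, 4, 1, 2, 3, 4, 5, 4, 2, 3, 4, 2, 1]),
  (70161, [6, 4, 5, 2, 3, 4, 2, 3, 4, 5, 2, 3, 1, 2]),
  (81973, [1, 2, 3, 4, 3, 4, 5, 4, 2, 3, 4, 1, 2, 3, 4, 5, 4, 3, 4, 2, 3, 4, 5, 6, 5, 4, 1, 2]),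
  (88638, [2, 3, 4, 5, 4, 3, 4, 2, 3, 4, 5, 1, 2, 3, 4, 3, 4, 5, 2, 3, 4, 3, 4, 5, 6, 4, 5, 2, 3, 2]),
  (91305, [4, 5, 6, 5, 4, 2, 3, 4, 5, 2, 3, 4, 3, 4, 2, 3, 4, 5, 6, 3, 4, 5, 2, 3, 2, 1]),
  (112634, [4, 3, 4, 2, 3, 4, 5, 6, 4, 1, 2, 3, 4, 5, 4, 3, 4, 3, 1, 2])]⟩

/-- A word carrying the first point. -/
def tW6 : List ℕ := [4, 2, 7, 5, 3, 0, 4, 5, 3, 4, 2, 3, 1, 2, 0]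

/-- Intertwiners in the stabiliser. -/
def interZ6 : Inter := ⟨zW, [7, 2, 1, 3, 2, 4, 3, 5, 4, 7, 3, 5, 0, 2, 4, 4, 2, 3, 4, 5, 6, 3, 4, 2, 3, 4, 5, 2, 3, 4, 3, 4, 5, 2, 3, 4, 3, 4, 4, 2, 7, 5, 3, 0, 4, 5, 3, 4, 2, 3, 1, 2, 0], [7, 2, 1, 3, 2, 4, 3, 5, 4, 7, 3, 5, 0, 2, 4, 4, 3, 4, 3, 2, 5, 4, 3, 4, 3, 2, 5, 4, 3, 2, 4, 3, 6, 5, 4, 3, 2, 4, 4, 2, 7, 5, 3, 0, 4, 5, 3, 4, 2, 3, 1, 2, 0], 15439, 6, [15439, 22588, 22882, 81116, 96323, 23054], [0, 3, 3, 3, 3, 3], stepsZ, [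
  (9391, [3, 4, 5, 1, 2, 3, 4, 3, 4, 5, 6, 2, 3, 4, 5, 3, 4, 2, 3, 4, 3, 2]),
  (13978, [5, 3, 4, 3, 4, 5, 4, 2, 3, 4, 1, 2, 3, 4, 5, 6, 3, 4, 5, 2, 3, 2]),
  (14679, [4, 5, 1, 2, 3, 4, 2, 3, 4, 5, 2, 3, 4, 3, 4, 2, 3, 4, 5, 4, 1, 2, 3, 4, 3, 2, 1]),
  (26258, [4, 2, 3, 4, 5, 4, 3, 4, 1, 2, 3, 4, 5, 6, 3, 4, 1, 2, 1]),
  (47117, [6, 5, 4, 2, 3, 4, 5, 4, 3, 4, 2, 3, 4, 5, 1, 2, 3, 4, 2, 3, 4, 5, 6, 2, 3, 2, 1]),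
  (49622, [5, 6, 2, 3, 4, 5, 3, 4, 2, 3, 4, 5, 4, 3, 4, 2, 3, 4, 5, 6, 2, 3, 4, 5, 4]),
  (50716, [1, 2, 3, 4, 5, 1, 2, 3, 4, 3, 4, 5, 2, 3, 4, 3, 4, 5, 4, 1, 2, 3, 4, 2, 3]),
  (52423, [4, 3, 4, 5, 6, 1, 2, 3, 4, 5, 3, 4, 3, 4, 2, 3, 4, 5, 3, 4, 2, 3, 4, 1, 2, 3, 4, 5]),
  (78124, [6, 4, 3, 4, 5, 4, 3, 4, 2, 3, 4, 5, 4, 3, 4, 2, 3, 4, 5, 2, 3, 4, 1, 2, 3]),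
  (93163, [3, 4, 3, 4, 5, 4, 3, 4, 2, 3, 4, 5, 1, 2, 3, 4, 3, 4, 5, 2, 3, 4, 3, 4, 5, 6, 2, 1]),
  (109060, [4, 5, 6, 1, 2, 3, 4, 5, 2, 3, 4, 3, 4, 2, 3, 4, 5, 4, 1, 2, 3, 4, 2, 3, 4, 5, 4, 1]),
  (110508, [4, 5, 6, 2, 3, 4, 5, 3, 4, 2, 3, 4, 1, 2, 3, 4, 5, 3, 4, 2, 3, 4, 2, 3, 4, 5, 4, 3])]⟩

/-- A word carrying the first point. -/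
def tW7 : List ℕ := [5, 4, 2, 3, 4, 7, 5, 0, 4, 1, 2, 3, 4, 5, 0]

/-- Intertwiners in the stabiliser. -/
def interZ7 : Inter := ⟨zW, [7, 5, 4, 3, 2, 1, 4, 7, 5, 0, 4, 3, 2, 4, 5, 4, 2, 3, 4, 5, 6, 3, 4, 2, 3, 4, 5, 2, 3, 4, 3, 4, 5, 2, 3, 4, 3, 4, 5, 4, 2, 3, 4, 7, 5, 0, 4, 1, 2, 3, 4, 5, 0], [7, 5, 4, 3, 2, 1, 4, 7, 5, 0, 4, 3, 2, 4, 5, 4, 3, 4, 3, 2, 5, 4, 3, 4, 3, 2, 5, 4, 3, 2, 4, 3, 6, 5, 4, 3, 2, 4, 5, 4, 2, 3, 4, 7, 5, 0, 4, 1, 2, 3, 4, 5, 0], 15439, 6, [15439, 22588, 22882, 81116, 96323, 23054], [0, 3, 3, 3, 3, 3], stepsZ, []⟩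

/-- A word carrying the first point. -/
def tW8 : List ℕ := [5, 0, 5, 6, 2, 3, 4, 5, 2, 3, 4, 2, 3, 0, 2, 0]

/-- Intertwiners in the stabiliser. -/
def interZ8 : Inter := ⟨zW, [7, 2, 7, 3, 2, 4, 3, 2, 5, 4, 3, 2, 6, 5, 7, 5, 4, 2, 3, 4, 5, 6, 3, 4, 2, 3, 4, 5, 2, 3, 4, 3, 4, 5, 2, 3, 4, 3, 4, 5, 0, 5, 6, 2, 3, 4, 5, 2, 3, 4, 2, 3, 0, 2, 0], [7, 2, 7, 3, 2, 4, 3, 2, 5, 4, 3, 2, 6, 5, 7, 5, 4, 3, 4, 3, 2, 5, 4, 3, 4, 3, 2, 5, 4, 3, 2, 4, 3, 6, 5, 4, 3, 2, 4, 5, 0, 5, 6, 2, 3, 4, 5, 2, 3, 4, 2, 3, 0, 2, 0], 15439, 6, [15439, 22588, 22882, 81116, 96323, 23054], [0, 3, 3, 3, 3, 3], stepsZ, [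
  (25220, [6, 5, 4, 3, 4, 2, 3, 4, 5, 6, 3, 4, 5, 3, 4, 2, 3, 4, 5, 4, 3, 4, 1, 2, 3, 4, 1, 2, 3, 4, 5, 4, 3]),
  (27546, [4, 3, 4, 5, 6, 4, 3, 4, 5, 4, 2, 3, 4, 1, 2, 3, 4, 5, 4, 3, 1]),
  (43611, [3, 4, 3, 4, 2, 3, 4, 5, 4, 3, 4, 1, 2, 3, 4, 5, 4, 2, 3, 4, 1, 2, 3, 2, 1]),
  (49164, [5, 6, 3, 4, 5, 2, 3, 4, 3, 4, 2, 3, 4, 5, 6, 4, 1, 2, 3, 4, 5, 2, 3, 4, 3, 4, 2, 3, 4, 5, 6, 4, 1]),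
  (52335, [6, 5, 3, 4, 1, 2, 3, 4, 5, 2, 3, 4, 2, 3, 4, 5, 6, 4, 5, 2, 3, 2]),
  (60053, [6, 5, 1, 2, 3, 4, 2, 3, 4, 5, 4, 2, 3, 4, 2, 3, 4, 5, 6, 2, 3, 4, 5, 3, 4, 2, 3, 4, 1, 2]),
  (66775, [2, 3, 4, 5, 4, 2, 3, 4, 2, 3, 4, 5, 6, 4, 2, 3, 4, 5, 2, 3, 4, 3, 4, 2, 3, 4, 5, 4, 2, 1]),
  (75593, [3, 4, 2, 3, 4, 5, 3, 4, 3, 4, 2, 3, 4, 5, 3, 4, 2, 3, 4, 5, 6, 4, 2, 3, 4, 5, 2, 3, 1]),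
  (93127, [6, 5, 3, 4, 3, 4, 2, 3, 4, 5, 3, 4, 2, 3, 4, 1, 2, 3, 4, 5, 6, 4, 3, 4, 5, 2, 3, 4, 1, 2, 1]),
  (95268, [5, 4, 1, 2, 3, 4, 5, 6, 2, 3, 4, 5, 2, 3, 4, 2, 3, 4, 5, 6, 4, 2]),
  (110724, [6, 4, 3, 4, 5, 4, 3, 4, 2, 3, 4, 5, 6, 4, 3, 1, 2, 1]),
  (122728, [5, 3, 4, 3, 4, 5, 2, 3, 4, 3, 4, 2, 3, 4, 5, 4, 2, 3, 1, 2])]⟩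

/-- The fixed points of the second element with their certificates. -/
def fixZ : List (ℕ × List ℕ × Inter) := [(0, tW0, interZ0), (6969, tW1, interZ1), (25579, tW2, interZ2), (52425, tW3, interZ3), (88204, tW4, interZ4), (95903, tW5, interZ5), (96000, tW6, interZ6), (114303, tW7, interZ7), (119738, tW8, interZ8)]

/-- The generators in the three elements and their inverses. -/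
def genW : List (List ℕ) := [
  [3, 5, 0, 4, 1, 3, 0, 5, 0, 5, 1, 4, 4, 0, 5, 5, 1, 4, 4, 3],
  [2, 4, 1, 4, 1, 1, 5, 0, 4, 4, 0, 5, 1, 5, 1, 1, 1, 5, 0, 5],
  [1, 1, 5, 5, 5, 1, 2, 0, 0, 4, 0, 5, 1, 5, 1, 5, 5, 3, 0, 0, 4, 4],
  [3, 0, 0, 5, 5, 1, 2, 4, 0, 5, 0, 4, 0, 5, 3, 1, 4, 4, 1, 2],
  [3, 0, 5, 5, 1, 2, 4, 0, 5, 0, 4, 0, 5, 3, 1, 4, 4, 2],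
  [0, 3, 0, 5, 5, 1, 2, 4, 0, 5, 0, 4, 0, 5, 3, 1, 4, 4, 2, 1],
  [0, 0, 3, 5, 5, 0, 2, 4, 1, 5, 1, 4, 1, 5, 3, 0, 4, 4, 0, 0, 2],
  [2, 5, 5, 0, 4, 4, 1, 5, 5, 0, 4, 1, 4, 1, 2, 0, 5, 1, 4, 2]]

/-- Images of the generators. -/
def imgW : List (List ℕ) := [
  [4, 3, 4, 3, 2, 5, 4, 3, 4, 3, 2, 5, 4, 3, 2, 4, 3, 6, 5, 4, 3, 2, 4, 1, 2, 1, 4, 3, 2, 5, 4, 3, 4, 6, 5, 4, 3, 2, 1, 4, 3, 2, 4, 3, 5, 4, 3, 2, 4, 3, 4, 3, 5, 6, 7, 2, 7, 3, 2, 4, 3, 2, 5, 4, 3, 2, 6, 5, 7, 5, 1, 2, 3, 4, 5, 6, 5, 0, 5, 6, 2, 3, 4, 5, 2, 3, 4, 2, 3, 0, 2, 0, 6, 5, 3, 4, 3, 4, 2, 3, 4, 5, 3, 4, 2, 3, 4, 1, 2, 3, 4, 5, 6, 4, 3, 4, 5, 2, 3, 4, 1, 2, 1, 6, 5, 4, 3, 2, 1, 4,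 3, 4, 3, 2, 5, 4, 3, 4, 3, 2, 5, 4, 3, 2, 4, 3, 6, 5, 4, 3, 2, 4, 1, 2, 3, 4, 5, 6, 1, 2, 1, 4, 3, 2, 5, 4, 3, 4, 6, 5, 4, 3, 2, 1, 4, 3, 2, 4, 3, 5, 4, 3, 2, 4, 3, 4, 3, 5, 6, 7, 2, 7, 3, 2, 4, 3, 2, 5, 4, 3, 2, 6, 5, 7, 5, 1, 2, 3, 4, 5, 6, 1, 2, 1, 4, 3, 2, 5, 4, 3, 4, 6, 5, 4, 3, 2, 1, 4, 3, 2, 4, 3, 5, 4, 3, 2, 4, 3, 4, 3, 5, 6, 7, 2, 7, 3, 2, 4, 3, 2, 5, 4, 3, 2, 6, 5, 7, 5, 6, 5, 4, 3, 2, 1, 5, 0, 5, 6, 2, 3, 4, 5, 2, 3, 4, 2, 3, 0, 2, 0, 6, 5, 3, 4, 3, 4, 2, 3, 4, 5, 3, 4, 2, 3, 4, 1, 2, 3, 4, 5, 6, 4, 3, 4, 5, 2, 3, 4, 1, 2, 1, 5, 0, 5, 6, 2, 3, 4, 5, 2, 3, 4, 2, 3, 0, 2, 0, 6, 5, 3, 4, 3, 4, 2, 3, 4, 5, 3, 4, 2, 3, 4, 1, 2, 3, 4, 5,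 6, 4, 3, 4, 5, 2, 3, 4, 1, 2, 1, 1, 2, 3, 4, 5, 6, 1, 2, 1, 4, 3, 2, 5, 4, 3, 4, 6, 5, 4, 3, 2, 1, 4, 3, 2, 4, 3, 5, 4, 3, 2, 4, 3, 4, 3, 5, 6, 7, 2, 7, 3, 2, 4, 3, 2, 5, 4, 3, 2, 6, 5, 7, 5, 1, 2, 1, 4, 3, 2, 5, 4, 3, 4, 6, 5, 4, 3, 2, 1, 4, 3, 2, 4, 3, 5, 4, 3, 2, 4, 3, 4, 3, 5, 6, 7, 2, 7, 3, 2, 4, 3, 2, 5, 4, 3, 2, 6, 5, 7, 5, 6, 5, 4, 3, 2, 1, 5, 0, 5, 6, 2, 3, 4, 5, 2, 3, 4, 2, 3, 0, 2, 0, 6, 5, 3, 4, 3, 4, 2, 3, 4, 5, 3, 4, 2, 3, 4, 1, 2, 3, 4, 5, 6, 4, 3, 4, 5, 2, 3, 4, 1, 2, 1, 5, 0, 5, 6, 2, 3, 4, 5, 2, 3, 4, 2, 3, 0, 2, 0, 6, 5, 3, 4, 3, 4, 2, 3, 4, 5, 3, 4, 2, 3, 4, 1, 2, 3, 4, 5, 6, 4, 3, 4, 5, 2, 3, 4, 1, 2, 1, 4, 3, 4, 3, 2, 5,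 4, 3, 4, 3, 2, 5, 4, 3, 2, 4, 3, 6, 5, 4, 3, 2, 4],
  [4, 2, 3, 4, 5, 6, 3, 4, 2, 3, 4, 5, 2, 3, 4, 3, 4, 5, 2, 3, 4, 3, 4, 5, 0, 5, 6, 2, 3, 4, 5, 2, 3, 4, 2, 3, 0, 2, 0, 6, 5, 3, 4, 3, 4, 2, 3, 4, 5, 3, 4, 2, 3, 4, 1, 2, 3, 4, 5, 6, 4, 3, 4, 5, 2, 3, 4, 1, 2, 1, 6, 5, 4, 3, 2, 1, 5, 0, 5, 6, 2, 3, 4, 5, 2, 3, 4, 2, 3, 0, 2, 0, 6, 5, 3, 4, 3, 4, 2, 3, 4, 5, 3, 4, 2, 3, 4, 1, 2, 3, 4, 5, 6, 4, 3, 4, 5, 2, 3, 4, 1, 2, 1, 6, 5, 4, 3, 2, 1, 6, 5, 4, 3, 2, 1, 1, 2, 1, 4, 3, 2, 5, 4, 3, 4, 6, 5, 4, 3, 2, 1, 4, 3, 2, 4, 3, 5, 4, 3, 2, 4, 3, 4, 3, 5, 6, 7, 2, 7, 3, 2, 4, 3, 2, 5, 4, 3, 2, 6, 5, 7, 5, 1, 2, 3, 4, 5, 6, 5, 0, 5, 6, 2, 3, 4, 5, 2, 3, 4,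 2, 3, 0, 2, 0, 6, 5, 3, 4, 3, 4, 2, 3, 4, 5, 3, 4, 2, 3, 4, 1, 2, 3, 4, 5, 6, 4, 3, 4, 5, 2, 3, 4, 1, 2, 1, 5, 0, 5, 6, 2, 3, 4, 5, 2, 3, 4, 2, 3, 0, 2, 0, 6, 5, 3, 4, 3, 4, 2, 3, 4, 5, 3, 4, 2, 3, 4, 1, 2, 3, 4, 5, 6, 4, 3, 4, 5, 2, 3, 4, 1, 2, 1, 1, 2, 3, 4, 5, 6, 1, 2, 1, 4, 3, 2, 5, 4, 3, 4, 6, 5, 4, 3, 2, 1, 4, 3, 2, 4, 3, 5, 4, 3, 2, 4, 3, 4, 3, 5, 6, 7, 2, 7, 3, 2, 4, 3, 2, 5, 4, 3, 2, 6, 5, 7, 5, 6, 5, 4, 3, 2, 1, 1, 2, 1, 4, 3, 2, 5, 4, 3, 4, 6, 5, 4, 3, 2, 1, 4, 3, 2, 4, 3, 5, 4, 3, 2, 4, 3, 4, 3, 5, 6, 7, 2, 7, 3, 2, 4, 3, 2, 5, 4, 3, 2, 6, 5, 7, 5, 6, 5, 4, 3, 2, 1, 6, 5, 4, 3, 2, 1, 6, 5, 4, 3, 2, 1, 1, 2, 1, 4, 3, 2, 5, 4, 3, 4,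 6, 5, 4, 3, 2, 1, 4, 3, 2, 4, 3, 5, 4, 3, 2, 4, 3, 4, 3, 5, 6, 7, 2, 7, 3, 2, 4, 3, 2, 5, 4, 3, 2, 6, 5, 7, 5, 1, 2, 3, 4, 5, 6, 1, 2, 1, 4, 3, 2, 5, 4, 3, 4, 6, 5, 4, 3, 2, 1, 4, 3, 2, 4, 3, 5, 4, 3, 2, 4, 3, 4, 3, 5, 6, 7, 2, 7, 3, 2, 4, 3, 2, 5, 4, 3, 2, 6, 5, 7, 5],
  [6, 5, 4, 3, 2, 1, 6, 5, 4, 3, 2, 1, 1, 2, 1, 4, 3, 2, 5, 4, 3, 4, 6, 5, 4, 3, 2, 1, 4, 3, 2, 4, 3, 5, 4, 3, 2, 4, 3, 4, 3, 5, 6, 7, 2, 7, 3, 2, 4, 3, 2, 5, 4, 3, 2, 6, 5, 7, 5, 1, 2, 1, 4, 3, 2, 5, 4, 3, 4, 6, 5, 4, 3, 2, 1, 4, 3, 2, 4, 3, 5, 4, 3, 2, 4, 3, 4, 3, 5, 6, 7, 2, 7, 3, 2, 4, 3, 2, 5, 4, 3, 2, 6, 5, 7, 5, 1, 2, 1, 4, 3, 2, 5, 4, 3, 4, 6, 5, 4, 3, 2, 1, 4, 3, 2, 4,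 3, 5, 4, 3, 2, 4, 3, 4, 3, 5, 6, 7, 2, 7, 3, 2, 4, 3, 2, 5, 4, 3, 2, 6, 5, 7, 5, 6, 5, 4, 3, 2, 1, 4, 2, 3, 4, 5, 6, 3, 4, 2, 3, 4, 5, 2, 3, 4, 3, 4, 5, 2, 3, 4, 3, 4, 1, 2, 3, 4, 5, 6, 1, 2, 3, 4, 5, 6, 5, 0, 5, 6, 2, 3, 4, 5, 2, 3, 4, 2, 3, 0, 2, 0, 6, 5, 3, 4, 3, 4, 2, 3, 4, 5, 3, 4, 2, 3, 4, 1, 2, 3, 4, 5, 6, 4, 3, 4, 5, 2, 3, 4, 1, 2, 1, 1, 2, 3, 4, 5, 6, 1, 2, 1, 4, 3, 2, 5, 4, 3, 4, 6, 5, 4, 3, 2, 1, 4, 3, 2, 4, 3, 5, 4, 3, 2, 4, 3, 4, 3, 5, 6, 7, 2, 7, 3, 2, 4, 3, 2, 5, 4, 3, 2, 6, 5, 7, 5, 6, 5, 4, 3, 2, 1, 1, 2, 1, 4, 3, 2, 5, 4, 3, 4, 6, 5, 4, 3, 2, 1, 4, 3, 2, 4, 3, 5, 4, 3, 2, 4, 3, 4, 3, 5, 6, 7, 2, 7, 3, 2, 4, 3, 2, 5, 4, 3, 2,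 6, 5, 7, 5, 6, 5, 4, 3, 2, 1, 1, 2, 1, 4, 3, 2, 5, 4, 3, 4, 6, 5, 4, 3, 2, 1, 4, 3, 2, 4, 3, 5, 4, 3, 2, 4, 3, 4, 3, 5, 6, 7, 2, 7, 3, 2, 4, 3, 2, 5, 4, 3, 2, 6, 5, 7, 5, 1, 2, 1, 4, 3, 2, 5, 4, 3, 4, 6, 5, 4, 3, 2, 1, 4, 3, 2, 4, 3, 5, 4, 3, 2, 4, 3, 4, 3, 5, 6, 7, 2, 7, 3, 2, 4, 3, 2, 5, 4, 3, 2, 6, 5, 7, 5, 4, 3, 4, 3, 2, 5, 4, 3, 4, 3, 2, 5, 4, 3, 2, 4, 3, 6, 5, 4, 3, 2, 4, 1, 2, 3, 4, 5, 6, 1, 2, 3, 4, 5, 6, 5, 0, 5, 6, 2, 3, 4, 5, 2, 3, 4, 2, 3, 0, 2, 0, 6, 5, 3, 4, 3, 4, 2, 3, 4, 5, 3, 4, 2, 3, 4, 1, 2, 3, 4, 5, 6, 4, 3, 4, 5, 2, 3, 4, 1, 2, 1, 5, 0, 5, 6, 2, 3, 4, 5, 2, 3, 4, 2, 3, 0, 2, 0, 6, 5, 3, 4, 3, 4, 2, 3, 4, 5, 3, 4, 2, 3, 4,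 1, 2, 3, 4, 5, 6, 4, 3, 4, 5, 2, 3, 4, 1, 2, 1],
  [4, 3, 4, 3, 2, 5, 4, 3, 4, 3, 2, 5, 4, 3, 2, 4, 3, 6, 5, 4, 3, 2, 4, 1, 2, 3, 4, 5, 6, 1, 2, 3, 4, 5, 6, 1, 2, 1, 4, 3, 2, 5, 4, 3, 4, 6, 5, 4, 3, 2, 1, 4, 3, 2, 4, 3, 5, 4, 3, 2, 4, 3, 4, 3, 5, 6, 7, 2, 7, 3, 2, 4, 3, 2, 5, 4, 3, 2, 6, 5, 7, 5, 1, 2, 1, 4, 3, 2, 5, 4, 3, 4, 6, 5, 4, 3, 2, 1, 4, 3, 2, 4, 3, 5, 4, 3, 2, 4, 3, 4, 3, 5, 6, 7, 2, 7, 3, 2, 4, 3, 2, 5, 4, 3, 2, 6, 5, 7, 5, 6, 5, 4, 3, 2, 1, 4, 2, 3, 4, 5, 6, 3, 4, 2, 3, 4, 5, 2, 3, 4, 3, 4, 5, 2, 3, 4, 3, 4, 5, 0, 5, 6, 2, 3, 4, 5, 2, 3, 4, 2, 3, 0, 2, 0, 6, 5, 3, 4, 3, 4, 2, 3, 4, 5, 3, 4, 2, 3, 4, 1, 2, 3, 4, 5, 6, 4, 3, 4, 5, 2,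 3, 4, 1, 2, 1, 1, 2, 3, 4, 5, 6, 1, 2, 1, 4, 3, 2, 5, 4, 3, 4, 6, 5, 4, 3, 2, 1, 4, 3, 2, 4, 3, 5, 4, 3, 2, 4, 3, 4, 3, 5, 6, 7, 2, 7, 3, 2, 4, 3, 2, 5, 4, 3, 2, 6, 5, 7, 5, 1, 2, 3, 4, 5, 6, 5, 0, 5, 6, 2, 3, 4, 5, 2, 3, 4, 2, 3, 0, 2, 0, 6, 5, 3, 4, 3, 4, 2, 3, 4, 5, 3, 4, 2, 3, 4, 1, 2, 3, 4, 5, 6, 4, 3, 4, 5, 2, 3, 4, 1, 2, 1, 1, 2, 3, 4, 5, 6, 1, 2, 1, 4, 3, 2, 5, 4, 3, 4, 6, 5, 4, 3, 2, 1, 4, 3, 2, 4, 3, 5, 4, 3, 2, 4, 3, 4, 3, 5, 6, 7, 2, 7, 3, 2, 4, 3, 2, 5, 4, 3, 2, 6, 5, 7, 5, 4, 3, 4, 3, 2, 5, 4, 3, 4, 3, 2, 5, 4, 3, 2, 4, 3, 6, 5, 4, 3, 2, 4, 6, 5, 4, 3, 2, 1, 5, 0, 5, 6, 2, 3, 4, 5, 2, 3, 4, 2, 3, 0, 2, 0, 6, 5, 3, 4, 3, 4, 2, 3,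 4, 5, 3, 4, 2, 3, 4, 1, 2, 3, 4, 5, 6, 4, 3, 4, 5, 2, 3, 4, 1, 2, 1, 5, 0, 5, 6, 2, 3, 4, 5, 2, 3, 4, 2, 3, 0, 2, 0, 6, 5, 3, 4, 3, 4, 2, 3, 4, 5, 3, 4, 2, 3, 4, 1, 2, 3, 4, 5, 6, 4, 3, 4, 5, 2, 3, 4, 1, 2, 1, 6, 5, 4, 3, 2, 1, 4, 2, 3, 4, 5, 6, 3, 4, 2, 3, 4, 5, 2, 3, 4, 3, 4, 5, 2, 3, 4, 3, 4],
  [4, 3, 4, 3, 2, 5, 4, 3, 4, 3, 2, 5, 4, 3, 2, 4, 3, 6, 5, 4, 3, 2, 4, 1, 2, 3, 4, 5, 6, 1, 2, 1, 4, 3, 2, 5, 4, 3, 4, 6, 5, 4, 3, 2, 1, 4, 3, 2, 4, 3, 5, 4, 3, 2, 4, 3, 4, 3, 5, 6, 7, 2, 7, 3, 2, 4, 3, 2, 5, 4, 3, 2, 6, 5, 7, 5, 1, 2, 1, 4, 3, 2, 5, 4, 3, 4, 6, 5, 4, 3, 2, 1, 4, 3, 2, 4, 3, 5, 4, 3, 2, 4, 3, 4, 3, 5, 6, 7, 2, 7, 3, 2, 4, 3, 2, 5, 4,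 3, 2, 6, 5, 7, 5, 6, 5, 4, 3, 2, 1, 4, 2, 3, 4, 5, 6, 3, 4, 2, 3, 4, 5, 2, 3, 4, 3, 4, 5, 2, 3, 4, 3, 4, 5, 0, 5, 6, 2, 3, 4, 5, 2, 3, 4, 2, 3, 0, 2, 0, 6, 5, 3, 4, 3, 4, 2, 3, 4, 5, 3, 4, 2, 3, 4, 1, 2, 3, 4, 5, 6, 4, 3, 4, 5, 2, 3, 4, 1, 2, 1, 1, 2, 3, 4, 5, 6, 1, 2, 1, 4, 3, 2, 5, 4, 3, 4, 6, 5, 4, 3, 2, 1, 4, 3, 2, 4, 3, 5, 4, 3, 2, 4, 3, 4, 3, 5, 6, 7, 2, 7, 3, 2, 4, 3, 2, 5, 4, 3, 2, 6, 5, 7, 5, 1, 2, 3, 4, 5, 6, 5, 0, 5, 6, 2, 3, 4, 5, 2, 3, 4, 2, 3, 0, 2, 0, 6, 5, 3, 4, 3, 4, 2, 3, 4, 5, 3, 4, 2, 3, 4, 1, 2, 3, 4, 5, 6, 4, 3, 4, 5, 2, 3, 4, 1, 2, 1, 1, 2, 3, 4, 5, 6, 1, 2, 1, 4, 3, 2, 5, 4, 3, 4, 6, 5, 4, 3, 2, 1, 4, 3, 2, 4, 3, 5, 4,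 3, 2, 4, 3, 4, 3, 5, 6, 7, 2, 7, 3, 2, 4, 3, 2, 5, 4, 3, 2, 6, 5, 7, 5, 4, 3, 4, 3, 2, 5, 4, 3, 4, 3, 2, 5, 4, 3, 2, 4, 3, 6, 5, 4, 3, 2, 4, 6, 5, 4, 3, 2, 1, 5, 0, 5, 6, 2, 3, 4, 5, 2, 3, 4, 2, 3, 0, 2, 0, 6, 5, 3, 4, 3, 4, 2, 3, 4, 5, 3, 4, 2, 3, 4, 1, 2, 3, 4, 5, 6, 4, 3, 4, 5, 2, 3, 4, 1, 2, 1, 5, 0, 5, 6, 2, 3, 4, 5, 2, 3, 4, 2, 3, 0, 2, 0, 6, 5, 3, 4, 3, 4, 2, 3, 4, 5, 3, 4, 2, 3, 4, 1, 2, 3, 4, 5, 6, 4, 3, 4, 5, 2, 3, 4, 1, 2, 1, 4, 2, 3, 4, 5, 6, 3, 4, 2, 3, 4, 5, 2, 3, 4, 3, 4, 5, 2, 3, 4, 3, 4],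
  [1, 2, 3, 4, 5, 6, 4, 3, 4, 3, 2, 5, 4, 3, 4, 3, 2, 5, 4, 3, 2, 4, 3, 6, 5, 4, 3, 2, 4, 1, 2, 3, 4, 5, 6, 1, 2, 1, 4, 3, 2, 5, 4, 3, 4, 6, 5, 4, 3, 2, 1, 4, 3, 2, 4, 3, 5, 4, 3, 2, 4, 3, 4, 3, 5, 6, 7, 2, 7, 3, 2, 4, 3, 2, 5, 4, 3, 2, 6, 5, 7, 5, 1, 2, 1, 4, 3, 2, 5, 4, 3, 4, 6, 5, 4, 3, 2, 1, 4, 3, 2, 4, 3, 5, 4, 3, 2, 4, 3, 4, 3, 5, 6, 7, 2, 7, 3, 2, 4, 3, 2, 5, 4, 3, 2, 6, 5, 7, 5, 6, 5, 4, 3, 2, 1, 4, 2, 3, 4, 5, 6, 3, 4, 2, 3, 4, 5, 2, 3, 4, 3, 4, 5, 2, 3, 4, 3, 4, 5, 0, 5, 6, 2, 3, 4, 5, 2, 3, 4, 2, 3, 0, 2, 0, 6, 5, 3, 4, 3, 4, 2, 3, 4, 5, 3, 4, 2, 3, 4, 1, 2, 3, 4, 5, 6, 4, 3, 4, 5, 2, 3, 4, 1, 2, 1, 1, 2, 3, 4, 5, 6, 1, 2, 1, 4, 3,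 2, 5, 4, 3, 4, 6, 5, 4, 3, 2, 1, 4, 3, 2, 4, 3, 5, 4, 3, 2, 4, 3, 4, 3, 5, 6, 7, 2, 7, 3, 2, 4, 3, 2, 5, 4, 3, 2, 6, 5, 7, 5, 1, 2, 3, 4, 5, 6, 5, 0, 5, 6, 2, 3, 4, 5, 2, 3, 4, 2, 3, 0, 2, 0, 6, 5, 3, 4, 3, 4, 2, 3, 4, 5, 3, 4, 2, 3, 4, 1, 2, 3, 4, 5, 6, 4, 3, 4, 5, 2, 3, 4, 1, 2, 1, 1, 2, 3, 4, 5, 6, 1, 2, 1, 4, 3, 2, 5, 4, 3, 4, 6, 5, 4, 3, 2, 1, 4, 3, 2, 4, 3, 5, 4, 3, 2, 4, 3, 4, 3, 5, 6, 7, 2, 7, 3, 2, 4, 3, 2, 5, 4, 3, 2, 6, 5, 7, 5, 4, 3, 4, 3, 2, 5, 4, 3, 4, 3, 2, 5, 4, 3, 2, 4, 3, 6, 5, 4, 3, 2, 4, 6, 5, 4, 3, 2, 1, 5, 0, 5, 6, 2, 3, 4, 5, 2, 3, 4, 2, 3, 0, 2, 0, 6, 5, 3, 4, 3, 4, 2, 3, 4, 5, 3, 4, 2, 3, 4, 1, 2, 3, 4, 5, 6, 4, 3, 4,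 5, 2, 3, 4, 1, 2, 1, 5, 0, 5, 6, 2, 3, 4, 5, 2, 3, 4, 2, 3, 0, 2, 0, 6, 5, 3, 4, 3, 4, 2, 3, 4, 5, 3, 4, 2, 3, 4, 1, 2, 3, 4, 5, 6, 4, 3, 4, 5, 2, 3, 4, 1, 2, 1, 4, 2, 3, 4, 5, 6, 3, 4, 2, 3, 4, 5, 2, 3, 4, 3, 4, 5, 2, 3, 4, 3, 4, 6, 5, 4, 3, 2, 1],
  [1, 2, 3, 4, 5, 6, 1, 2, 3, 4, 5, 6, 4, 3, 4, 3, 2, 5, 4, 3, 4, 3, 2, 5, 4, 3, 2, 4, 3, 6, 5, 4, 3, 2, 4, 1, 2, 1, 4, 3, 2, 5, 4, 3, 4, 6, 5, 4, 3, 2, 1, 4, 3, 2, 4, 3, 5, 4, 3, 2, 4, 3, 4, 3, 5, 6, 7, 2, 7, 3, 2, 4, 3, 2, 5, 4, 3, 2, 6, 5, 7, 5, 1, 2, 1, 4, 3, 2, 5, 4, 3, 4, 6, 5, 4, 3, 2, 1, 4, 3, 2, 4, 3, 5, 4, 3, 2, 4, 3, 4, 3, 5, 6, 7, 2, 7, 3, 2, 4, 3, 2, 5, 4, 3, 2, 6, 5, 7, 5, 1, 2, 3, 4,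 5, 6, 4, 2, 3, 4, 5, 6, 3, 4, 2, 3, 4, 5, 2, 3, 4, 3, 4, 5, 2, 3, 4, 3, 4, 5, 0, 5, 6, 2, 3, 4, 5, 2, 3, 4, 2, 3, 0, 2, 0, 6, 5, 3, 4, 3, 4, 2, 3, 4, 5, 3, 4, 2, 3, 4, 1, 2, 3, 4, 5, 6, 4, 3, 4, 5, 2, 3, 4, 1, 2, 1, 6, 5, 4, 3, 2, 1, 1, 2, 1, 4, 3, 2, 5, 4, 3, 4, 6, 5, 4, 3, 2, 1, 4, 3, 2, 4, 3, 5, 4, 3, 2, 4, 3, 4, 3, 5, 6, 7, 2, 7, 3, 2, 4, 3, 2, 5, 4, 3, 2, 6, 5, 7, 5, 6, 5, 4, 3, 2, 1, 5, 0, 5, 6, 2, 3, 4, 5, 2, 3, 4, 2, 3, 0, 2, 0, 6, 5, 3, 4, 3, 4, 2, 3, 4, 5, 3, 4, 2, 3, 4, 1, 2, 3, 4, 5, 6, 4, 3, 4, 5, 2, 3, 4, 1, 2, 1, 6, 5, 4, 3, 2, 1, 1, 2, 1, 4, 3, 2, 5, 4, 3, 4, 6, 5, 4, 3, 2, 1, 4, 3, 2, 4, 3, 5, 4, 3, 2, 4, 3, 4, 3, 5, 6, 7, 2,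 7, 3, 2, 4, 3, 2, 5, 4, 3, 2, 6, 5, 7, 5, 4, 3, 4, 3, 2, 5, 4, 3, 4, 3, 2, 5, 4, 3, 2, 4, 3, 6, 5, 4, 3, 2, 4, 1, 2, 3, 4, 5, 6, 5, 0, 5, 6, 2, 3, 4, 5, 2, 3, 4, 2, 3, 0, 2, 0, 6, 5, 3, 4, 3, 4, 2, 3, 4, 5, 3, 4, 2, 3, 4, 1, 2, 3, 4, 5, 6, 4, 3, 4, 5, 2, 3, 4, 1, 2, 1, 5, 0, 5, 6, 2, 3, 4, 5, 2, 3, 4, 2, 3, 0, 2, 0, 6, 5, 3, 4, 3, 4, 2, 3, 4, 5, 3, 4, 2, 3, 4, 1, 2, 3, 4, 5, 6, 4, 3, 4, 5, 2, 3, 4, 1, 2, 1, 1, 2, 3, 4, 5, 6, 1, 2, 3, 4, 5, 6, 4, 2, 3, 4, 5, 6, 3, 4, 2, 3, 4, 5, 2, 3, 4, 3, 4, 5, 2, 3, 4, 3, 4],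
  [4, 2, 3, 4, 5, 6, 3, 4, 2, 3, 4, 5, 2, 3, 4, 3, 4, 5, 2, 3, 4, 3, 4, 1, 2, 1, 4, 3, 2, 5, 4, 3, 4, 6, 5, 4, 3, 2, 1, 4, 3, 2, 4, 3, 5, 4, 3, 2, 4, 3, 4, 3, 5, 6, 7, 2, 7, 3, 2, 4, 3, 2, 5, 4, 3, 2, 6, 5, 7, 5, 1, 2, 1, 4, 3, 2, 5, 4, 3, 4, 6, 5, 4, 3, 2, 1, 4, 3, 2, 4, 3, 5, 4, 3, 2, 4, 3, 4, 3, 5, 6, 7, 2, 7, 3, 2, 4, 3, 2, 5, 4, 3, 2, 6, 5, 7, 5, 1, 2, 3, 4, 5, 6, 5, 0, 5, 6, 2, 3, 4, 5, 2, 3, 4, 2, 3, 0, 2, 0, 6, 5, 3, 4, 3, 4, 2, 3, 4, 5, 3, 4, 2, 3, 4, 1, 2, 3, 4, 5, 6, 4, 3, 4, 5, 2, 3, 4, 1, 2, 1, 5, 0, 5, 6, 2, 3, 4, 5, 2, 3, 4, 2, 3, 0, 2, 0, 6, 5, 3, 4, 3, 4, 2, 3, 4, 5, 3, 4, 2, 3, 4, 1, 2, 3, 4, 5, 6, 4, 3, 4, 5, 2, 3, 4, 1, 2,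 1, 6, 5, 4, 3, 2, 1, 1, 2, 1, 4, 3, 2, 5, 4, 3, 4, 6, 5, 4, 3, 2, 1, 4, 3, 2, 4, 3, 5, 4, 3, 2, 4, 3, 4, 3, 5, 6, 7, 2, 7, 3, 2, 4, 3, 2, 5, 4, 3, 2, 6, 5, 7, 5, 1, 2, 1, 4, 3, 2, 5, 4, 3, 4, 6, 5, 4, 3, 2, 1, 4, 3, 2, 4, 3, 5, 4, 3, 2, 4, 3, 4, 3, 5, 6, 7, 2, 7, 3, 2, 4, 3, 2, 5, 4, 3, 2, 6, 5, 7, 5, 1, 2, 3, 4, 5, 6, 5, 0, 5, 6, 2, 3, 4, 5, 2, 3, 4, 2, 3, 0, 2, 0, 6, 5, 3, 4, 3, 4, 2, 3, 4, 5, 3, 4, 2, 3, 4, 1, 2, 3, 4, 5, 6, 4, 3, 4, 5, 2, 3, 4, 1, 2, 1, 6, 5, 4, 3, 2, 1, 5, 0, 5, 6, 2, 3, 4, 5, 2, 3, 4, 2, 3, 0, 2, 0, 6, 5, 3, 4, 3, 4, 2, 3, 4, 5, 3, 4, 2, 3, 4, 1, 2, 3, 4, 5, 6, 4, 3, 4, 5, 2, 3, 4, 1, 2, 1, 6, 5, 4, 3, 2, 1, 4, 2, 3, 4,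 5, 6, 3, 4, 2, 3, 4, 5, 2, 3, 4, 3, 4, 5, 2, 3, 4, 3, 4, 1, 2, 3, 4, 5, 6, 1, 2, 1, 4, 3, 2, 5, 4, 3, 4, 6, 5, 4, 3, 2, 1, 4, 3, 2, 4, 3, 5, 4, 3, 2, 4, 3, 4, 3, 5, 6, 7, 2, 7, 3, 2, 4, 3, 2, 5, 4, 3, 2, 6, 5, 7, 5, 6, 5, 4, 3, 2, 1, 5, 0, 5, 6, 2, 3, 4, 5, 2, 3, 4, 2, 3, 0, 2, 0, 6, 5, 3, 4, 3, 4, 2, 3, 4, 5, 3, 4, 2, 3, 4, 1, 2, 3, 4, 5, 6, 4, 3, 4, 5, 2, 3, 4, 1, 2, 1, 4, 2, 3, 4, 5, 6, 3, 4, 2, 3, 4, 5, 2, 3, 4, 3, 4, 5, 2, 3, 4, 3, 4]]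

/-- Relations of the three elements. -/
def relW : List (List ℕ) := [
  [2, 2, 2, 2, 2, 2],
  [0, 1, 2, 0, 1, 2, 0, 1, 2, 0, 1, 2, 0, 1, 2, 0, 1, 2, 0, 1, 2, 0, 1, 2, 0, 1, 2, 0, 1, 2, 0, 1, 2, 0, 1, 2, 0, 1, 2, 0, 1, 2, 0, 1, 2, 0, 1, 2, 0, 1, 2, 0, 1, 2, 0, 1, 2],
  [0, 0, 1, 1, 2, 0, 0, 1, 1, 2, 0, 0, 1, 1, 2, 0, 0, 1, 1, 2, 0, 0, 1, 1, 2, 0, 0, 1, 1, 2, 0, 0, 1, 1, 2, 0, 0, 1, 1, 2, 0, 0, 1, 1, 2, 0, 0, 1, 1, 2],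
  [0, 0, 0, 0, 2, 0, 0, 0, 0, 2, 0, 0, 0, 0, 2, 0, 0, 0, 0, 2, 0, 0, 0, 0, 2, 0, 0, 0, 0, 2, 0, 0, 0, 0, 2, 0, 0, 0, 0, 2, 0, 0, 0, 0, 2, 0, 0, 0, 0, 2, 0, 0, 0, 0, 2]]

/-- The possible images. -/
def goodTab : List (ℕ × ℕ) := [(1, 19), (1, 68)]

end CfsgLib.ONAut
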