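import Cfsg.Agent.Lib.ONAut.Pairs

/-! The test on the triples of one exponent. -/

set_option autoImplicit false

namespace CfsgLib.ONAut

open CfsgLib.CosetEnum

theorem pair_two : (List.range centZ.length).all (pairB 2) = true := by decide +kernel

end CfsgLib.ONAut
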