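import Cfsg.Agent.Lib.ONAut.ScanAll
import Cfsg.Agent.Lib.ONAut.Pair1
import Cfsg.Agent.Lib.ONAut.Pair2
import Cfsg.Agent.Lib.ONAut.Pair4
import Cfsg.Agent.Lib.CosetEnum.ON.Simple
import Cfsg.Agent.Lib.M24Elt.AutCheck
import Cfsg.Prelude.Def_KGroupFacts

/-! The outer automorphism group of the O'Nan group has order two. -/

set_option autoImplicit false

namespace CfsgLib.ONAut

open Cfsg CfsgLib.CosetEnum

theorem scan_parts (k : ℕ) (hk : k < 122760) :
    reach 20 k = true ∧ (app xW k = k → k = 0) ∧ (app zW k = k → ∃ p ∈ fixZ, p.1 = k) ∧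
    ((ON.lab.get 20 k = 3 ∨ ON.lab.get 20 k = 4) →
      uniqB k (0 :: centX.cv) stepsX = true ∧ uniqB k (0 :: interZ0.cv) stepsZ = true) ∧
    (ON.lab.get 20 k = 3 → centX.screenB k = true ∧ ∀ p ∈ fixZ, p.2.2.screenB k = true) := by
  have h := scan_ok k hk
  rw [scanB, strict_eq] at h
  simp only [threeB, Bool.and_eq_true, Bool.or_eq_true, Bool.not_eq_true', List.any_eq_true, List.all_eq_true,
    Nat.beq_eq] at h
  obtain ⟨⟨⟨h1, h2⟩, h3⟩, h4, h5⟩ := h
  refine ⟨h1, fun e => ?_, fun e => ?_, fun e => ?_, fun e => ?_⟩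
  · rcases h2 with h2 | h2
    · exact h2
    · simp [e] at h2
  · rcases h3 with h3 | h3
    · simp [e] at h3
    · exact h3
  · rcases h4 with h4 | h4
    · rcases e with e | e <;> simp [e] at h4
    · exact h4
  · rcases h5 with h5 | h5
    · simp [e] at h5
    · exact h5

theorem reach_all (a : Fin 122760) : reach 20 a = true := (scan_parts a a.2).1

theorem uniqB_of_lab {k : ℕ} : ∀ (st : List Step) (K : List ℕ),
    (∀ s ∈ st, ON.lab.get 20 k ≠ ON.lab.get 20 s.1) → uniqB k K st = true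
  | [], _, _ => rfl
  | (b, cb, v) :: rest, K, h => by
    simp only [uniqB, Bool.and_eq_true, Bool.or_eq_true, Bool.not_eq_true']
    refine ⟨Or.inl (Or.inl ?_), uniqB_of_lab rest _ fun s hs => h s (List.mem_cons_of_mem _ hs)⟩
    exact Bool.eq_false_iff.2 fun e => h _ List.mem_cons_self (Nat.eq_of_beq_eq_true e)

theorem steps_lab : ((stepsX ++ stepsZ).all fun s =>
    Nat.beq (ON.lab.get 20 s.1) 3 || Nat.beq (ON.lab.get 20 s.1) 4) = true := by
  decide +kernel

theorem uniq_both (k : ℕ) (hk : k < 122760) :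
    uniqB k (0 :: centX.cv) stepsX = true ∧ uniqB k (0 :: interZ0.cv) stepsZ = true := by
  by_cases hl : ON.lab.get 20 k = 3 ∨ ON.lab.get 20 k = 4
  · exact (scan_parts k hk).2.2.2.1 hl
  · have h := steps_lab
    simp only [List.all_eq_true, Bool.or_eq_true, Nat.beq_eq, List.mem_append] at h
    exact ⟨uniqB_of_lab _ _ fun s hs e => hl (by rw [e]; exact h s (Or.inl hs)),
      uniqB_of_lab _ _ fun s hs e => hl (by rw [e]; exact h s (Or.inr hs))⟩

theorem centX_heads : (centX.headB && centX.elsB) = true := by decide +kernel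

theorem fixZ_heads : (fixZ.all fun p => p.2.2.headB && p.2.2.elsB) = true := by decide +kernel

theorem fixZ_shapes : (fixZ.all fun p => wordB p.2.1 && Nat.beq (app p.2.1 0) p.1 && listEq p.2.2.vW zW &&
    eqW (p.2.1 ++ p.2.2.wW) (zW ++ p.2.1)) = true := by
  decide +kernel

theorem fixZ_shared {p : ℕ × List ℕ × Inter} (hp : p ∈ fixZ) :
    p.2.2.cv = interZ0.cv ∧ p.2.2.steps = stepsZ := by
  simp only [fixZ, List.mem_cons, List.not_mem_nil, or_false] at hp
  rcases hp with rfl | rfl | rfl | rfl | rfl | rfl | rfl | rfl | rfl <;> exact ⟨rfl, rfl⟩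

theorem centX_valid : centX.Valid := by
  have h := centX_heads
  rw [Bool.and_eq_true] at h
  exact ⟨h.1, fun k hk => (uniq_both k hk).1, fun k hk hl => ((scan_parts k hk).2.2.2.2 hl).1, h.2⟩

theorem fixZ_valid {p : ℕ × List ℕ × Inter} (hp : p ∈ fixZ) : p.2.2.Valid := by
  have h := List.all_eq_true.1 fixZ_heads p hp
  rw [Bool.and_eq_true] at h
  refine ⟨h.1, fun k hk => ?_, fun k hk hl => ((scan_parts k hk).2.2.2.2 hl).2 p hp, h.2⟩
  rw [(fixZ_shared hp).1, (fixZ_shared hp).2]
  exact (uniq_both k hk).2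

/-- The element of order 19. -/
def X : Cfsg.Spor.ON := ev xW
/-- The element of order 6. -/
def Z : Cfsg.Spor.ON := ev zW
/-- The third element. -/
def S : Cfsg.Spor.ON := ev sW

theorem first_check : (eqW (List.replicate 19 xW).flatten [] && neW xW [] &&
    eqW (zW ++ xW) ((List.replicate 8 xW).flatten ++ zW) && eqW (sW ++ zW) (zW ++ sW) &&
    Nat.beq (app xW 0) 0 && wordB xW && wordB zW) = true := by
  decide +kernel

theorem orderOf_X : orderOf X = 19 := by
  have h := first_check
  simp only [Bool.and_eq_true] at h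
  have : Fact (Nat.Prime 19) := ⟨by norm_num⟩
  refine orderOf_eq_prime ?_ (neW_spec h.1.1.1.1.1.2)
  rw [X, ← ev_replicate, eqW_spec h.1.1.1.1.1.1, ev_nil]

theorem X_ne : X ≠ 1 := fun h => by
  have := orderOf_X
  rw [h, orderOf_one] at this
  omega

theorem Z_mul_X : Z * X = X ^ 8 * Z := by
  have h := first_check
  simp only [Bool.and_eq_true] at h
  have e := eqW_spec h.1.1.1.1.2
  rwa [ev_append, ev_append, ev_replicate] at e

theorem S_mul_Z : S * Z = Z * S := by
  have h := first_check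
  simp only [Bool.and_eq_true] at h
  have e := eqW_spec h.1.1.1.2
  rwa [ev_append, ev_append] at e

theorem Z_mul_X_pow (j : ℕ) : Z * X ^ j = X ^ (8 * j) * Z := by
  induction j with
  | zero => simp
  | succ j ih => rw [pow_succ, ← mul_assoc, ih, mul_assoc, Z_mul_X, ← mul_assoc, ← pow_add, mul_add, mul_one]

theorem Z_pow_mul_X (t j : ℕ) : Z ^ t * X ^ j = X ^ (8 ^ t * j) * Z ^ t := by
  induction t with
  | zero => simp
  | succ t ih =>
    rw [pow_succ' Z, mul_assoc, ih, ← mul_assoc, Z_mul_X_pow, mul_assoc]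
    congr 2
    rw [pow_succ']
    ring

theorem X_pow_mod (j : ℕ) : X ^ (j % 19) = X ^ j := by rw [← orderOf_X, pow_mod_orderOf]

/-- The centraliser of `X`. -/
theorem centX_complete {g : Cfsg.Spor.ON} (hg : g * X = X * g) : ∃ e ∈ centX.els, g = ev e.2 := by
  have h := first_check
  simp only [Bool.and_eq_true, Nat.beq_eq] at h
  refine centX.complete reach_all centX_valid hg (Fin.ext ((scan_parts _ (Fin.is_lt _)).2.1 ?_))
  rw [← ev_app h.1.2, ← Equiv.Perm.mul_apply, ← map_mul, show ev xW = X from rfl, ← hg, map_mul,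
    Equiv.Perm.mul_apply]
  congr 2
  exact Fin.ext ((ev_app h.1.2 _).trans h.1.1.2)

theorem centZ_complete {g : Cfsg.Spor.ON} (hg : g * Z = Z * g) : ∃ w ∈ centZ, g = ev w := by
  have h := first_check
  simp only [Bool.and_eq_true, Nat.beq_eq] at h
  have hz0 : app zW 0 = 0 := by decide +kernel
  have hfix : app zW (ON.π g ⟨0, by omega⟩ : Fin 122760) = (ON.π g ⟨0, by omega⟩ : Fin 122760).val := by
    rw [← ev_app h.2, ← Equiv.Perm.mul_apply, ← map_mul, show ev zW = Z from rfl, ← hg, map_mul,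
      Equiv.Perm.mul_apply]
    congr 2
    exact Fin.ext ((ev_app h.2 _).trans hz0)
  obtain ⟨p, hp, hpg⟩ := (scan_parts _ (Fin.is_lt _)).2.2.1 hfix
  have hs := List.all_eq_true.1 fixZ_shapes p hp
  simp only [Bool.and_eq_true, Nat.beq_eq] at hs
  obtain ⟨⟨⟨hpw, hp0⟩, hpv⟩, hpz⟩ := hs
  have hpz := eqW_spec hpz
  rw [ev_append, ev_append, show ev zW = Z from rfl] at hpz
  set t := ev p.2.1 with ht
  have hc : t⁻¹ * g * ev p.2.2.vW = ev p.2.2.wW * (t⁻¹ * g) := by
    rw [listEq_eq _ _ hpv]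
    show t⁻¹ * g * Z = _
    rw [mul_assoc, hg, ← mul_assoc, ← mul_assoc]
    congr 1
    rw [inv_mul_eq_iff_eq_mul, ← mul_assoc, hpz, mul_inv_cancel_right]
  have h0 : ON.π (t⁻¹ * g) ⟨0, by omega⟩ = ⟨0, by omega⟩ := by
    rw [map_mul, Equiv.Perm.mul_apply, map_inv, Equiv.Perm.inv_def, Equiv.symm_apply_eq]
    refine Fin.ext ?_
    rw [ht, ev_app hpw]
    exact (hp0.trans hpg).symm
  obtain ⟨e, he, hge⟩ := p.2.2.complete reach_all (fixZ_valid hp) hc h0
  refine ⟨p.2.1 ++ e.2, List.mem_flatMap.2 ⟨p, hp, List.mem_map.2 ⟨e, he, rfl⟩⟩, ?_⟩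
  rw [ev_append, ← hge, ← ht, mul_inv_cancel_left]

theorem slide_check : centX.els.all (fun e => (List.range 19).any fun m =>
    eqW (zW ++ e.2 ++ (List.replicate m xW).flatten) ((List.replicate m xW).flatten ++ zW)) = true := by
  decide +kernel

/-- An element acting on `X` as `Z` does is conjugate to `Z` by a power of `X`. -/
theorem exists_slide {u : Cfsg.Spor.ON} (hu : u * X = X ^ 8 * u) : ∃ m : ℕ, u * X ^ m = X ^ m * Z := by
  have hc : Z⁻¹ * u * X = X * (Z⁻¹ * u) := by
    have hz : Z⁻¹ * X ^ 8 = X * Z⁻¹ := by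
      rw [inv_mul_eq_iff_eq_mul, ← mul_assoc, Z_mul_X, mul_inv_cancel_right]
    rw [mul_assoc, hu, ← mul_assoc, hz, mul_assoc]
  obtain ⟨e, he, hew⟩ := centX_complete hc
  have h := List.all_eq_true.1 slide_check e he
  obtain ⟨m, -, hm⟩ := List.any_eq_true.1 h
  refine ⟨m, ?_⟩
  have e' := eqW_spec hm
  rw [ev_append, ev_append, ev_append, ev_replicate] at e'
  rw [← show Z * ev e.2 = u from by rw [← hew, mul_inv_cancel_left]]
  exact e'

/-- Six words for three elements and their inverses. -/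
def six (x z s : List ℕ) : List (List ℕ) :=
  [x, (x.map (linv 18364758542614016535)).reverse, z, (z.map (linv 18364758542614016535)).reverse,
    s, (s.map (linv 18364758542614016535)).reverse]

theorem gen_word_check : ((List.range 8).all (fun j => eqW (flat (six xW zW sW) (genW.getD j [])) [j]) &&
    eqW ((six xW zW sW).getD 1 [] ++ xW) [] && eqW ((six xW zW sW).getD 3 [] ++ zW) [] &&
    eqW ((six xW zW sW).getD 5 [] ++ sW) []) = true := by
  decide +kernel

theorem g_eq (j : ℕ) (hj : j < 8) :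
    ON.g j = ((genW.getD j []).map fun a => ev ((six xW zW sW).getD a [])).prod := by
  have h := gen_word_check
  simp only [Bool.and_eq_true, List.all_eq_true] at h
  rw [← ev_flat, eqW_spec (h.1.1.1 j (List.mem_range.2 hj)), ev, List.map_singleton, List.prod_singleton]

theorem hom_ext_xzs {M : Type*} [Group M] {f f' : Cfsg.Spor.ON →* M} (hX : f X = f' X) (hZ : f Z = f' Z)
    (hS : f S = f' S) : f = f' := by
  have h := gen_word_check
  simp only [Bool.and_eq_true] at h
  have inv_case : ∀ u w : List ℕ, eqW (u ++ w) [] = true → f (ev w) = f' (ev w) → f (ev u) = f' (ev u) := by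
    intro u w huw e
    have e' := eqW_spec huw
    rw [ev_append, ev_nil] at e'
    rw [eq_inv_of_mul_eq_one_left e', map_inv, map_inv, e]
  have hL : ∀ a, f (ev ((six xW zW sW).getD a [])) = f' (ev ((six xW zW sW).getD a []))
    | 0 => hX
    | 1 => inv_case _ _ h.1.1.2 hX
    | 2 => hZ
    | 3 => inv_case _ _ h.1.2 hZ
    | 4 => hS
    | 5 => inv_case _ _ h.2 hS
    | n + 6 => by
      rw [List.getD_eq_default _ _ (by simp [six]), ev_nil, map_one, map_one]
  refine MonoidHom.eq_of_eqOn_dense (s := ON.g '' Set.Iio 16) (top_le_iff.1 ON.translation.closure_top) ?_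
  rintro _ ⟨j, hj, rfl⟩
  rcases ON.gen_or_one j hj with h8 | h1
  · rw [g_eq j h8, map_list_prod, map_list_prod, List.map_map, List.map_map]
    exact congrArg List.prod (List.map_congr_left fun a _ => hL a)
  · rw [h1, map_one, map_one]

theorem exponent_check : (List.range 19).all (fun j => Nat.beq j 0 || (List.range 6).any fun t =>
    Nat.beq (8 ^ t * j % 19) 1 || Nat.beq (8 ^ t * j % 19) 2 || Nat.beq (8 ^ t * j % 19) 4) = true := by
  decide +kernel

theorem pair_check : (List.range centZ.length).all (fun k => pairB 1 k && pairB 2 k && pairB 4 k) = true := by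
  simp only [List.all_eq_true, Bool.and_eq_true]
  exact fun k hk => ⟨⟨List.all_eq_true.1 pair_one k hk, List.all_eq_true.1 pair_two k hk⟩,
    List.all_eq_true.1 pair_four k hk⟩

theorem rel_check : relW.all (fun r => eqW (flat [xW, zW, sW] r) []) = true := by decide +kernel

/-- The possible images of the three elements. -/
noncomputable def image (g : ℕ × ℕ) : Cfsg.Spor.ON × Cfsg.Spor.ON × Cfsg.Spor.ON :=
  (X ^ g.1, Z, ev (centZ.getD g.2 []))

theorem normalise (φ : MulAut Cfsg.Spor.ON) : ∃ h : Cfsg.Spor.ON, ∃ i : Fin goodTab.length,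
    ((MulAut.conj h * φ) X, (MulAut.conj h * φ) Z, (MulAut.conj h * φ) S) = image goodTab[i] := by
  haveI := ON.finite
  have : Fact (Nat.Prime 19) := ⟨by norm_num⟩
  obtain ⟨c, hc⟩ := CfsgLib.M24Elt.AutBound.exists_conj_mem (S := Subgroup.zpowers X) (p := 19) (k := 1)
    (by rw [Nat.card_zpowers, orderOf_X, pow_one]) (by rw [ON.card_group]; norm_num)
    ((φ.orderOf_eq X).trans orderOf_X)
  rw [← mem_powers_iff_mem_zpowers, Submonoid.mem_powers_iff] at hc
  obtain ⟨j, hj⟩ := hc
  have hj0 : j % 19 ≠ 0 := by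
    intro h0
    have h1 : c * φ X * c⁻¹ = 1 := by rw [← hj, ← X_pow_mod, h0, pow_zero]
    rw [conj_eq_one_iff] at h1
    exact X_ne (φ.injective (h1.trans (map_one φ).symm))
  have ht := List.all_eq_true.1 exponent_check (j % 19) (List.mem_range.2 (Nat.mod_lt _ (by norm_num)))
  simp only [Bool.or_eq_true, Nat.beq_eq, hj0, false_or, List.any_eq_true, or_assoc] at ht
  obtain ⟨t, -, ht⟩ := ht
  obtain ⟨e, he, het⟩ : ∃ e, (e = 1 ∨ e = 2 ∨ e = 4) ∧ 8 ^ t * (j % 19) % 19 = e := ⟨_, ht, rfl⟩
  set ψ : MulAut Cfsg.Spor.ON := MulAut.conj (Z ^ t * c) * φ with hψdef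
  have hψ : ψ X = X ^ e := by
    have h1 : ψ X = Z ^ t * (c * φ X * c⁻¹) * (Z ^ t)⁻¹ := by
      rw [hψdef, MulAut.mul_apply, MulAut.conj_apply]; group
    rw [h1, ← hj, ← X_pow_mod j, Z_pow_mul_X, mul_inv_cancel_right, ← X_pow_mod, het]
  have hu : ψ Z * X = X ^ 8 * ψ Z := by
    obtain ⟨r, hr⟩ : ∃ r, e * r % 19 = 1 := by
      rcases he with rfl | rfl | rfl
      · exact ⟨1, rfl⟩
      · exact ⟨10, rfl⟩
      · exact ⟨5, rfl⟩
    have h1 : ψ Z * X ^ (e * r) = X ^ (e * (8 * r)) * ψ Z := by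
      have h := congrArg ψ (Z_mul_X_pow r)
      rw [map_mul, map_mul, map_pow, map_pow, hψ] at h
      rwa [← pow_mul, ← pow_mul] at h
    rw [← X_pow_mod, hr, pow_one] at h1
    rw [h1]
    congr 1
    rw [show e * (8 * r) = 8 * (e * r) by ring, mul_comm 8, pow_mul, ← X_pow_mod (e * r), hr, pow_one]
  obtain ⟨m, hm⟩ := exists_slide hu
  set χ : MulAut Cfsg.Spor.ON := MulAut.conj (X ^ m)⁻¹ * ψ with hχdef
  have hχX : χ X = X ^ e := by
    rw [hχdef, MulAut.mul_apply, hψ, MulAut.conj_apply, inv_inv, mul_assoc, ← pow_add, add_comm, pow_add,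
      inv_mul_cancel_left]
  have hχZ : χ Z = Z := by
    rw [hχdef, MulAut.mul_apply, MulAut.conj_apply, inv_inv, mul_assoc, hm, inv_mul_cancel_left]
  have hS : χ S * Z = Z * χ S := by
    conv_lhs => rw [← hχZ, ← map_mul, S_mul_Z, map_mul, hχZ]
  obtain ⟨el, hel, helS⟩ := centZ_complete hS
  obtain ⟨k, hk, rfl⟩ := List.mem_iff_getElem.1 hel
  refine ⟨(X ^ m)⁻¹ * (Z ^ t * c), ?_⟩
  rw [show MulAut.conj ((X ^ m)⁻¹ * (Z ^ t * c)) * φ = χ by rw [hχdef, hψdef, map_mul, mul_assoc]]
  have hget : centZ.getD k [] = centZ[k] := List.getD_eq_getElem ..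
  have hpc := List.all_eq_true.1 pair_check k (List.mem_range.2 hk)
  rw [Bool.and_eq_true, Bool.and_eq_true] at hpc
  have hp : pairB e k = true := by rcases he with rfl | rfl | rfl <;> [exact hpc.1.1; exact hpc.1.2; exact hpc.2]
  rw [pairB, Bool.or_eq_true, List.contains_iff_mem, List.any_eq_true] at hp
  rcases hp with hp | ⟨r, hr, hne⟩
  · obtain ⟨i, hi, hie⟩ := List.mem_iff_getElem.1 hp
    refine ⟨⟨i, hi⟩, ?_⟩
    simp only [Fin.getElem_fin, hie, image, hχX, hχZ, helS, hget]
  · exfalso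
    apply neW_spec hne
    have hrel := eqW_spec (List.all_eq_true.1 rel_check r hr)
    rw [ev_flat] at hrel
    have h2 := congrArg χ.toMonoidHom hrel
    rw [map_list_prod, List.map_map, ev_nil, map_one] at h2
    rw [ev_flat, ev_nil, ← h2, hget]
    refine congrArg List.prod (List.map_congr_left fun a _ => ?_)
    show _ = χ (ev ([xW, zW, sW].getD a []))
    match a with
    | 0 => exact (ev_replicate xW e).trans hχX.symm
    | 1 => exact hχZ.symm
    | 2 => exact helS.symm
    | n + 3 =>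
      rw [List.getD_eq_default _ _ (by simp [triple]), List.getD_eq_default _ _ (by simp), ev_nil, map_one]

theorem card_out_le_two : Nat.card (Out Cfsg.Spor.ON) ≤ 2 := by
  haveI := ON.finite
  classical
  have hrep : ∀ q : Out Cfsg.Spor.ON, ∃ i : Fin goodTab.length, ∃ φ : MulAut Cfsg.Spor.ON,
      QuotientGroup.mk φ = q ∧ (φ X, φ Z, φ S) = image goodTab[i] := by
    intro q
    obtain ⟨φ, rfl⟩ := QuotientGroup.mk_surjective q
    obtain ⟨h, i, hi⟩ := normalise φ
    refine ⟨i, MulAut.conj h * φ, ?_, hi⟩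
    rw [QuotientGroup.mk_mul,
      (QuotientGroup.eq_one_iff (N := Inn Cfsg.Spor.ON) (MulAut.conj h)).2 ⟨h, rfl⟩, one_mul]
  choose f φ hφ using hrep
  have hinj : Function.Injective f := by
    intro a b hab
    have e := (hφ a).2.trans ((congrArg (fun i : Fin goodTab.length => image goodTab[i]) hab).trans (hφ b).2.symm)
    simp only [Prod.mk.injEq] at e
    rw [← (hφ a).1, ← (hφ b).1,
      MulEquiv.toMonoidHom_injective (hom_ext_xzs (f := (φ a).toMonoidHom) (f' := (φ b).toMonoidHom) e.1 e.2.1 e.2.2)]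
  have h := Nat.card_le_card_of_injective f hinj
  rwa [Nat.card_fin, show goodTab.length = 2 from rfl] at h

/-- The images of the generators as a substitution. -/
def subst : FreeGroup Cfsg.Spor.ON.Gen →* Cfsg.Spor.ON :=
  FreeGroup.lift fun a => ev (imgW.getD (ON.idx a) [])

theorem img_inv_check : ((List.range 16).all fun x =>
    eqW (imgW.getD (linv 18364758542614016535 x) [] ++ imgW.getD x []) []) = true := by
  decide +kernel

theorem img_rel_check : (ON.ls.all fun l => eqW (flat imgW l) []) = true := by decide +kernel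

theorem img_inv (x : ℕ) (hx : x < 16) :
    ev (imgW.getD (linv 18364758542614016535 x) []) = (ev (imgW.getD x []))⁻¹ := by
  have h := eqW_spec (List.all_eq_true.1 img_inv_check x (List.mem_range.2 hx))
  rw [ev_append, ev_nil] at h
  exact eq_inv_of_mul_eq_one_left h

theorem subst_gF (x : ℕ) (hx : x < 16) : subst (ON.gF x) = ev (imgW.getD x []) := by
  by_cases h7 : x = 7
  · subst h7
    rw [show ON.gF 7 = (ON.gF 0)⁻¹ from rfl, map_inv]
    have h0 : subst (ON.gF 0) = ev (imgW.getD 0 []) := FreeGroup.lift_apply_of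
    have h7' := img_inv 0 (by norm_num)
    rw [ON.linv_eq 0 (by norm_num), if_pos rfl] at h7'
    rw [h0, h7']
  rcases Nat.lt_or_ge x 8 with h8 | h8
  · interval_cases x <;> first | exact absurd rfl h7 | exact FreeGroup.lift_apply_of
  · have hlen : imgW.length ≤ 8 := by decide
    rw [show ON.gF x = 1 by interval_cases x <;> rfl, map_one, List.getD_eq_default _ _ (by omega), ev_nil]

theorem subst_rel : ∀ r ∈ Cfsg.Spor.coxRelators Cfsg.Spor.ON.edges ∪ {r | r ∈ Cfsg.Spor.ON.extra}, subst r = 1 := by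
  refine ON.translation.relator_eq_one subst (fun x hx => ?_) fun l hl => ?_
  · have hy : linv 18364758542614016535 x < 16 :=
      (by decide +kernel : ∀ x < 16, linv 18364758542614016535 x < 16) x hx
    rw [subst_gF _ hy, subst_gF x hx, img_inv x hx]
  · rw [List.map_congr_left fun x hx => subst_gF x ((ON.lsWords l hl).1 x hx), ← ev_flat,
      eqW_spec (List.all_eq_true.1 img_rel_check l hl), ev_nil]

/-- An endomorphism which is not inner. -/
def outer : Cfsg.Spor.ON →* Cfsg.Spor.ON := PresentedGroup.toGroup subst_rel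

theorem outer_g (x : ℕ) (hx : x < 16) : outer (ON.g x) = ev (imgW.getD x []) := by
  rw [← subst_gF x hx]
  show PresentedGroup.toGroup subst_rel (PresentedGroup.mk _ (ON.gF x)) = _
  generalize ON.gF x = w
  induction w using FreeGroup.induction_on with
  | C1 => simp
  | of a => exact (PresentedGroup.toGroup.of subst_rel).trans (FreeGroup.lift_apply_of).symm
  | inv_of a h => rw [map_inv, map_inv, map_inv]; exact congrArg (·⁻¹) h
  | mul u v hu hv => rw [map_mul, map_mul, map_mul]; exact congrArg₂ (· * ·) hu hv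

theorem outer_ev (w : List ℕ) (hw : ∀ x ∈ w, x < 16) : outer (ev w) = ev (flat imgW w) := by
  rw [ev_flat, ev, map_list_prod, List.map_map]
  exact congrArg List.prod (List.map_congr_left fun a ha => outer_g a (hw a ha))

theorem outer_check : (wordB xW && wordB zW && wordB sW && eqW (flat imgW xW) xW && eqW (flat imgW zW) zW &&
    eqW (flat imgW sW) sW2) = true := by
  decide +kernel

theorem outer_values : outer X = X ∧ outer Z = Z ∧ outer S = ev sW2 := by
  have h := outer_check
  simp only [Bool.and_eq_true] at h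
  refine ⟨?_, ?_, ?_⟩
  · rw [X, outer_ev _ (wordB_spec h.1.1.1.1.1), eqW_spec h.1.1.2]
  · rw [Z, outer_ev _ (wordB_spec h.1.1.1.1.2), eqW_spec h.1.2]
  · rw [S, outer_ev _ (wordB_spec h.1.1.1.2), eqW_spec h.2]

theorem outer_injective : Function.Injective outer := by
  have := ON.Simple.isSimple
  rcases (MonoidHom.normal_ker outer).eq_bot_or_eq_top with h | h
  · exact (MonoidHom.ker_eq_bot_iff _).1 h
  · exfalso
    refine X_ne ?_
    rw [← outer_values.1]
    exact MonoidHom.mem_ker.1 (h ▸ Subgroup.mem_top _)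

theorem not_inner_check : centX.els.all (fun e =>
    neW (e.2 ++ zW) (zW ++ e.2) || neW (e.2 ++ sW) (sW2 ++ e.2)) = true := by
  decide +kernel

theorem two_le_card_out : 2 ≤ Nat.card (Out Cfsg.Spor.ON) := by
  haveI := ON.finite
  haveI : Finite (MulAut Cfsg.Spor.ON) := Finite.of_injective (fun φ => (φ : Cfsg.Spor.ON → Cfsg.Spor.ON))
    DFunLike.coe_injective
  let σ : MulAut Cfsg.Spor.ON :=
    MulEquiv.ofBijective outer ⟨outer_injective, Finite.injective_iff_surjective.1 outer_injective⟩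
  haveI : Nontrivial (Out Cfsg.Spor.ON) := ⟨⟨QuotientGroup.mk σ, 1, fun h => ?_⟩⟩
  · exact Finite.one_lt_card
  · obtain ⟨g, hg⟩ := (QuotientGroup.eq_one_iff (N := Inn Cfsg.Spor.ON) σ).1 h
    have hσ : ∀ y, g * y * g⁻¹ = outer y := fun y => (DFunLike.congr_fun hg y :)
    have hX : g * X * g⁻¹ = X := (hσ X).trans outer_values.1
    have hZ : g * Z * g⁻¹ = Z := (hσ Z).trans outer_values.2.1
    have hS : g * S * g⁻¹ = ev sW2 := (hσ S).trans outer_values.2.2
    rw [mul_inv_eq_iff_eq_mul] at hX hZ hS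
    obtain ⟨e, he, hge⟩ := centX_complete hX
    have hn := List.all_eq_true.1 not_inner_check e he
    rw [Bool.or_eq_true] at hn
    rcases hn with hn | hn <;> refine neW_spec hn ?_ <;> rw [ev_append, ev_append, ← hge]
    · exact hZ
    · exact hS

theorem card_out : Nat.card (Out Cfsg.Spor.ON) = 2 := le_antisymm card_out_le_two two_le_card_out

end CfsgLib.ONAut
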