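import Cfsg.Agent.Lib.ONAut.Data

/-! The tested image triples. -/

set_option autoImplicit false

namespace CfsgLib.ONAut

open CfsgLib.CosetEnum

/-- The centraliser of `Z`. -/
noncomputable def centZ : List (List ℕ) := fixZ.flatMap fun p => p.2.2.els.map fun e => p.2.1 ++ e.2

/-- Images of the three elements. -/
def triple (e : ℕ) (k : List ℕ) : List (List ℕ) := [(List.replicate e xW).flatten, zW, k]

/-- Check that a possible image triple is one of the two or breaks a relation. -/
noncomputable def pairB (e k : ℕ) : Bool :=
  goodTab.contains (e, k) || relW.any fun r => neW (flat (triple e (centZ.getD k [])) r) []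

end CfsgLib.ONAut
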