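import Cfsg.Agent.Lib.ONAut.Data

/-! The test made on every coset. -/

set_option autoImplicit false

namespace CfsgLib.ONAut

open CfsgLib.CosetEnum

/-- The test on a point with the label of the followed points. -/
noncomputable def threeB (k : ℕ) : Bool :=
  centX.screenB k && fixZ.all fun p => p.2.2.screenB k

/-- The test on a point. -/
noncomputable def scanB (k : ℕ) : Bool :=
  reach 20 k &&
  (Nat.beq k 0 || !Nat.beq (app xW k) k) &&
  (!Nat.beq (app zW k) k || fixZ.any fun p => Nat.beq p.1 k) &&
  strict (ON.lab.get 20 k) fun c =>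
    (!(Nat.beq c 3 || Nat.beq c 4) ||
      (uniqB k (0 :: centX.cv) stepsX && uniqB k (0 :: interZ0.cv) stepsZ)) &&
    (!Nat.beq c 3 || threeB k)

end CfsgLib.ONAut
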