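import Cfsg.Agent.Lib.ONAut.Scan

/-! The test on a range of cosets. -/

set_option autoImplicit false

namespace CfsgLib.ONAut

open CfsgLib.CosetEnum

theorem scanOK_0 : allFrom scanB 4096 0 = true := by decide +kernel

theorem scanOK_4096 : allFrom scanB 4096 4096 = true := by decide +kernel

theorem scanOK_8192 : allFrom scanB 4096 8192 = true := by decide +kernel

theorem scanOK_12288 : allFrom scanB 4096 12288 = true := by decide +kernel

end CfsgLib.ONAut
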