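import Cfsg.Agent.Lib.ONAut.Scan

/-! The test on a range of cosets. -/

set_option autoImplicit false

namespace CfsgLib.ONAut

open CfsgLib.CosetEnum

theorem scanOK_16384 : allFrom scanB 4096 16384 = true := by decide +kernel

theorem scanOK_20480 : allFrom scanB 4096 20480 = true := by decide +kernel

theorem scanOK_24576 : allFrom scanB 4096 24576 = true := by decide +kernel

theorem scanOK_28672 : allFrom scanB 4096 28672 = true := by decide +kernel

end CfsgLib.ONAut
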