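import Cfsg.Agent.Lib.ONAut.Scan

/-! The test on a range of cosets. -/

set_option autoImplicit false

namespace CfsgLib.ONAut

open CfsgLib.CosetEnum

theorem scanOK_32768 : allFrom scanB 4096 32768 = true := by decide +kernel

theorem scanOK_36864 : allFrom scanB 4096 36864 = true := by decide +kernel

theorem scanOK_40960 : allFrom scanB 4096 40960 = true := by decide +kernel

theorem scanOK_45056 : allFrom scanB 4096 45056 = true := by decide +kernel

end CfsgLib.ONAut
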