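import Cfsg.Agent.Lib.ONAut.Scan

/-! The test on a range of cosets. -/

set_option autoImplicit false

namespace CfsgLib.ONAut

open CfsgLib.CosetEnum

theorem scanOK_98304 : allFrom scanB 4096 98304 = true := by decide +kernel

theorem scanOK_102400 : allFrom scanB 4096 102400 = true := by decide +kernel

theorem scanOK_106496 : allFrom scanB 4096 106496 = true := by decide +kernel

theorem scanOK_110592 : allFrom scanB 4096 110592 = true := by decide +kernel

end CfsgLib.ONAut
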