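import Cfsg.Agent.Lib.ONAut.Scan

/-! The test on a range of cosets. -/

set_option autoImplicit false

namespace CfsgLib.ONAut

open CfsgLib.CosetEnum

theorem scanOK_114688 : allFrom scanB 4096 114688 = true := by decide +kernel

theorem scanOK_118784 : allFrom scanB 3976 118784 = true := by decide +kernel

end CfsgLib.ONAut
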