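import Cfsg.Agent.Lib.ONAut.Scan0
import Cfsg.Agent.Lib.ONAut.Scan1
import Cfsg.Agent.Lib.ONAut.Scan2
import Cfsg.Agent.Lib.ONAut.Scan3
import Cfsg.Agent.Lib.ONAut.Scan4
import Cfsg.Agent.Lib.ONAut.Scan5
import Cfsg.Agent.Lib.ONAut.Scan6
import Cfsg.Agent.Lib.ONAut.Scan7

/-! The test on all cosets. -/

set_option autoImplicit false

namespace CfsgLib.ONAut

open CfsgLib.CosetEnum

theorem scan_ok (k : ℕ) (hk : k < 122760) : scanB k = true := by
  rcases Nat.lt_or_ge k 4096 with h | h
  · exact allFrom_spec _ _ _ scanOK_0 k (by omega) (by omega)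
  rcases Nat.lt_or_ge k 8192 with h | h
  · exact allFrom_spec _ _ _ scanOK_4096 k (by omega) (by omega)
  rcases Nat.lt_or_ge k 12288 with h | h
  · exact allFrom_spec _ _ _ scanOK_8192 k (by omega) (by omega)
  rcases Nat.lt_or_ge k 16384 with h | h
  · exact allFrom_spec _ _ _ scanOK_12288 k (by omega) (by omega)
  rcases Nat.lt_or_ge k 20480 with h | h
  · exact allFrom_spec _ _ _ scanOK_16384 k (by omega) (by omega)
  rcases Nat.lt_or_ge k 24576 with h | h
  · exact allFrom_spec _ _ _ scanOK_20480 k (by omega) (by omega)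
  rcases Nat.lt_or_ge k 28672 with h | h
  · exact allFrom_spec _ _ _ scanOK_24576 k (by omega) (by omega)
  rcases Nat.lt_or_ge k 32768 with h | h
  · exact allFrom_spec _ _ _ scanOK_28672 k (by omega) (by omega)
  rcases Nat.lt_or_ge k 36864 with h | h
  · exact allFrom_spec _ _ _ scanOK_32768 k (by omega) (by omega)
  rcases Nat.lt_or_ge k 40960 with h | h
  · exact allFrom_spec _ _ _ scanOK_36864 k (by omega) (by omega)
  rcases Nat.lt_or_ge k 45056 with h | h
  · exact allFrom_spec _ _ _ scanOK_40960 k (by omega) (by omega)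
  rcases Nat.lt_or_ge k 49152 with h | h
  · exact allFrom_spec _ _ _ scanOK_45056 k (by omega) (by omega)
  rcases Nat.lt_or_ge k 53248 with h | h
  · exact allFrom_spec _ _ _ scanOK_49152 k (by omega) (by omega)
  rcases Nat.lt_or_ge k 57344 with h | h
  · exact allFrom_spec _ _ _ scanOK_53248 k (by omega) (by omega)
  rcases Nat.lt_or_ge k 61440 with h | h
  · exact allFrom_spec _ _ _ scanOK_57344 k (by omega) (by omega)
  rcases Nat.lt_or_ge k 65536 with h | h
  · exact allFrom_spec _ _ _ scanOK_61440 k (by omega) (by omega)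
  rcases Nat.lt_or_ge k 69632 with h | h
  · exact allFrom_spec _ _ _ scanOK_65536 k (by omega) (by omega)
  rcases Nat.lt_or_ge k 73728 with h | h
  · exact allFrom_spec _ _ _ scanOK_69632 k (by omega) (by omega)
  rcases Nat.lt_or_ge k 77824 with h | h
  · exact allFrom_spec _ _ _ scanOK_73728 k (by omega) (by omega)
  rcases Nat.lt_or_ge k 81920 with h | h
  · exact allFrom_spec _ _ _ scanOK_77824 k (by omega) (by omega)
  rcases Nat.lt_or_ge k 86016 with h | h
  · exact allFrom_spec _ _ _ scanOK_81920 k (by omega) (by omega)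
  rcases Nat.lt_or_ge k 90112 with h | h
  · exact allFrom_spec _ _ _ scanOK_86016 k (by omega) (by omega)
  rcases Nat.lt_or_ge k 94208 with h | h
  · exact allFrom_spec _ _ _ scanOK_90112 k (by omega) (by omega)
  rcases Nat.lt_or_ge k 98304 with h | h
  · exact allFrom_spec _ _ _ scanOK_94208 k (by omega) (by omega)
  rcases Nat.lt_or_ge k 102400 with h | h
  · exact allFrom_spec _ _ _ scanOK_98304 k (by omega) (by omega)
  rcases Nat.lt_or_ge k 106496 with h | h
  · exact allFrom_spec _ _ _ scanOK_102400 k (by omega) (by omega)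
  rcases Nat.lt_or_ge k 110592 with h | h
  · exact allFrom_spec _ _ _ scanOK_106496 k (by omega) (by omega)
  rcases Nat.lt_or_ge k 114688 with h | h
  · exact allFrom_spec _ _ _ scanOK_110592 k (by omega) (by omega)
  rcases Nat.lt_or_ge k 118784 with h | h
  · exact allFrom_spec _ _ _ scanOK_114688 k (by omega) (by omega)
  rcases Nat.lt_or_ge k 122760 with h | h
  · exact allFrom_spec _ _ _ scanOK_118784 k (by omega) (by omega)
  omega

end CfsgLib.ONAut
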